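import Cfsg.Agent.Lib.ThreeTransp.M23Core.Geometry
import Cfsg.Agent.Lib.FischerPair.M23
import Cfsg.Agent.Lib.FischerPair.M23Tri.Seven
import Cfsg.Agent.Lib.Fi22P.O7
import Cfsg.Prelude.Def_Spor_Fi23

/-!
# Groups of type `M(23)` from the core conditions

The core conditions of a group of type `M(23)` give ten members in the diagram of the presentation of `Fi₂₃`
satisfying its two further relators, and the reflection condition of the type.
-/

set_option autoImplicit false

namespace CfsgLib.M23Core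

open CfsgLib.ThreeTransp CfsgLib.SporMisc CfsgLib.ThreeTransp.Factor
open CfsgLib.FischerPair (common dSub)
open CfsgLib.M23 (pj pj_mem Q E pj_eq_one_cases)

variable {G : Type*} [Group G]

/-- Ten members of a group of type `M(23)`: a non-commuting pair `p`, `j` and nine members `x k` commuting with
`p`, all but `x 6` common neighbours, with the pattern of the diagram and the relators, and the group of the
common neighbours is the simple orthogonal group. -/
structure Ten (D : Set G) (p j : G) (x : ℕ → G) : Prop where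
  hp : p ∈ D
  hj : j ∈ D
  nc : ¬ Commute p j
  link : ∀ k, k < 9 → x k ∈ link D p
  near : ∀ k, k < 9 → k ≠ 6 → x k ∈ common D p j
  far : ¬ Commute (x 6) j
  comm : ∀ u v, u < 9 → v < 9 → (Commute (x u) (x v) ↔ nineEdge u v = false)
  rel : ∀ w ∈ relIdx, (w.map x).prod = 1
  omega : Nonempty (↥(dSub D p j) ≃* Cfsg.POmega (ZMod 3) (Cfsg.quadFormOdd 3 (ZMod 3)))

theorem relIdx_lt : ∀ w ∈ relIdx, ∀ k ∈ w, k < 9 ∧ k ≠ 6 := by decide +kernel

theorem mirror_range : ∀ k, k < 9 → k ≠ 0 → mirror.getD k 0 < 9 ∧ mirror.getD k 0 ≠ 6 := by decide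

theorem mirror_onto : ∀ i, i < 9 → i ≠ 6 → ∃ k, k < 9 ∧ k ≠ 0 ∧ mirror.getD k 0 = i := by decide

variable [Finite G] {D : Set G} (S : M23.Setup D)
include S

omit [Finite G] in
/-- A common neighbour in the quotient of the link of `a` of two images comes from a common neighbour. -/
theorem lift_common [Finite G] {a u v : G} {q : Q D a} (ha : a ∈ D) (hu : u ∈ link D a) (hv : v ∈ link D a)
    (hq : q ∈ common (E D a) (pj hu) (pj hv)) :
    ∃ (x : G) (hx : x ∈ link D a), pj hx = q ∧ x ∈ common D u v := by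
  obtain ⟨x, hx, rfl⟩ := M23.Setup.pj_surj hq.1.1
  exact ⟨x, hx, rfl, (S.pj_link ha hu hx).1 hq.1, (S.pj_link ha hv hx).1 hq.2⟩

/-- Seven common neighbours and three completions. -/
theorem exists_seven_three {p j : G} (hp : p ∈ D) (hj : j ∈ D) (hnc : ¬ Commute p j) :
    ∃ a c d k f h i b₁ b₂ b₃ : G,
      (∀ x ∈ [a, c, d, k, f, h, i, b₁, b₂, b₃], x ∈ common D p j) ∧
      (∀ x ∈ [c, d, k, f, h, i], x ∈ link D a) ∧ (∀ x ∈ [k, f, h, i], x ∈ link D c) ∧
      (∀ x ∈ [h, i], x ∈ link D k) ∧ (∀ x ∈ [f, i], x ∈ link D d) ∧ (∀ x ∈ [h, i], x ∈ link D f) ∧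
      ¬ Commute c d ∧ ¬ Commute d k ∧ ¬ Commute k f ∧ ¬ Commute d h ∧ ¬ Commute h i ∧
      b₁ ≠ b₂ ∧ b₁ ≠ b₃ ∧ b₂ ≠ b₃ ∧ ∀ b ∈ [b₁, b₂, b₃], ¬ Commute a b ∧ ¬ Commute c b ∧
        Commute d b ∧ Commute k b ∧ Commute f b ∧ Commute i b := by
  obtain ⟨a, hap, haj⟩ := M23.common_nonempty S hp hj hnc
  have ha : a ∈ D := hap.1
  have lp : p ∈ link D a := M23.link_swap hp hap
  have lj : j ∈ link D a := M23.link_swap hj haj
  have T := S.link_setup ha
  obtain ⟨e, he⟩ := M22.exists_fi22_iso T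
  obtain ⟨z, hz, hpat⟩ := exists_six T e he (pj_mem lp) (pj_mem lj)
    fun h => hnc ((S.pj_comm ha lp lj).1 h)
  choose x hxl hxz hxc using fun i (hi : i < 6) => lift_common S ha lp lj (hz i hi)
  have edge : ∀ i k (hi : i < 6) (hk : k < 6), i ≠ k →
      x i hi ≠ x k hk ∧ (Commute (x i hi) (x k hk) ↔ frameEdge i k = false) := by
    intro i k hi hk hne
    obtain ⟨h1, h2⟩ := hpat i k hi hk hne
    refine ⟨fun h => h1 ?_, ?_⟩
    · rw [← hxz i hi, ← hxz k hk]; simp only [h]
    · rw [← S.pj_comm ha (hxl i hi) (hxl k hk), hxz i hi, hxz k hk]; exact h2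
  have lk : ∀ i k (hi : i < 6) (hk : k < 6), i ≠ k → frameEdge i k = false → x k hk ∈ link D (x i hi) :=
    fun i k hi hk hne h => ⟨(hxl k hk).1, (edge i k hi hk hne).1.symm, (edge i k hi hk hne).2.2 h⟩
  have nk : ∀ i k (hi : i < 6) (hk : k < 6), i ≠ k → frameEdge i k = true → ¬ Commute (x i hi) (x k hk) :=
    fun i k hi hk hne h hc => by simp [(edge i k hi hk hne).2.1 hc] at h
  set c := x 0 (by norm_num)
  set k := x 1 (by norm_num)
  set d := x 2 (by norm_num)
  set f := x 3 (by norm_num)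
  set h := x 4 (by norm_num)
  set i := x 5 (by norm_num)
  have hi : i ∈ D := (hxl 5 (by norm_num)).1
  have T' := S.link_setup hi
  obtain ⟨e', he'⟩ := M22.exists_fi22_iso T'
  have li : ∀ {m : G}, m ∈ D → i ∈ link D m → m ∈ link D i := fun hm h' => M23.link_swap hm h'
  have ip : p ∈ link D i := li hp (hxc 5 (by norm_num)).1
  have ij : j ∈ link D i := li hj (hxc 5 (by norm_num)).2
  have ia : a ∈ link D i := li ha (hxl 5 (by norm_num))
  have ic : c ∈ link D i := li (hxl 0 (by norm_num)).1 (lk 0 5 _ _ (by norm_num) (by decide))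
  have ik : k ∈ link D i := li (hxl 1 (by norm_num)).1 (lk 1 5 _ _ (by norm_num) (by decide))
  have id' : d ∈ link D i := li (hxl 2 (by norm_num)).1 (lk 2 5 _ _ (by norm_num) (by decide))
  have fi' : f ∈ link D i := li (hxl 3 (by norm_num)).1 (lk 3 5 _ _ (by norm_num) (by decide))
  have cm : ∀ {u : G} (hu : u ∈ link D i), u ∈ common D p j → pj hu ∈ common (E D i) (pj ip) (pj ij) :=
    fun hu h' => ⟨(S.pj_link hi ip hu).2 h'.1, (S.pj_link hi ij hu).2 h'.2⟩
  have ln : ∀ {u v : G} (hu : u ∈ link D i) (hv : v ∈ link D i), v ∈ link D u →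
      pj hv ∈ link (E D i) (pj hu) := fun hu hv h' => (S.pj_link hi hu hv).2 h'
  obtain ⟨q₁, q₂, q₃, n12, n13, n23, hq⟩ := quint_three T' e' he' (pj_mem ip) (pj_mem ij)
    (fun h' => hnc ((S.pj_comm hi ip ij).1 h')) (cm ia ⟨hap, haj⟩) (cm ic (hxc 0 _)) (cm id' (hxc 2 _))
    (cm ik (hxc 1 _)) (cm fi' (hxc 3 _)) (ln ia ic (hxl 0 _)) (ln ia id' (hxl 2 _)) (ln ia ik (hxl 1 _))
    (ln ia fi' (hxl 3 _)) (ln ic ik (lk 0 1 _ _ (by norm_num) (by decide)))
    (ln ic fi' (lk 0 3 _ _ (by norm_num) (by decide))) (ln id' fi' (lk 2 3 _ _ (by norm_num) (by decide)))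
    (fun h' => nk 0 2 _ _ (by norm_num) (by decide) ((S.pj_comm hi ic id').1 h'))
    (fun h' => nk 2 1 _ _ (by norm_num) (by decide) ((S.pj_comm hi id' ik).1 h'))
    (fun h' => nk 1 3 _ _ (by norm_num) (by decide) ((S.pj_comm hi ik fi').1 h'))
  obtain ⟨b₁, hb₁, rfl, hc₁⟩ := lift_common S hi ip ij (hq q₁ (by simp)).1
  obtain ⟨b₂, hb₂, rfl, hc₂⟩ := lift_common S hi ip ij (hq q₂ (by simp)).1
  obtain ⟨b₃, hb₃, rfl, hc₃⟩ := lift_common S hi ip ij (hq q₃ (by simp)).1
  refine ⟨a, c, d, k, f, h, i, b₁, b₂, b₃, ?_, ?_, ?_, ?_, ?_, ?_, nk 0 2 _ _ (by norm_num) (by decide),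
    nk 2 1 _ _ (by norm_num) (by decide), nk 1 3 _ _ (by norm_num) (by decide),
    nk 2 4 _ _ (by norm_num) (by decide), nk 4 5 _ _ (by norm_num) (by decide),
    fun h' => n12 (by simp only [h']), fun h' => n13 (by simp only [h']), fun h' => n23 (by simp only [h']),
    ?_⟩
  · simp only [List.forall_mem_cons, List.not_mem_nil, IsEmpty.forall_iff, implies_true, and_true]
    exact ⟨⟨hap, haj⟩, hxc 0 _, hxc 2 _, hxc 1 _, hxc 3 _, hxc 4 _, hxc 5 _, hc₁, hc₂, hc₃⟩
  · simp only [List.forall_mem_cons, List.not_mem_nil, IsEmpty.forall_iff, implies_true, and_true]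
    exact ⟨hxl 0 _, hxl 2 _, hxl 1 _, hxl 3 _, hxl 4 _, hxl 5 _⟩
  · simp only [List.forall_mem_cons, List.not_mem_nil, IsEmpty.forall_iff, implies_true, and_true]
    exact ⟨lk 0 1 _ _ (by norm_num) (by decide), lk 0 3 _ _ (by norm_num) (by decide),
      lk 0 4 _ _ (by norm_num) (by decide), lk 0 5 _ _ (by norm_num) (by decide)⟩
  · simp only [List.forall_mem_cons, List.not_mem_nil, IsEmpty.forall_iff, implies_true, and_true]
    exact ⟨lk 1 4 _ _ (by norm_num) (by decide), lk 1 5 _ _ (by norm_num) (by decide)⟩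
  · simp only [List.forall_mem_cons, List.not_mem_nil, IsEmpty.forall_iff, implies_true, and_true]
    exact ⟨lk 2 3 _ _ (by norm_num) (by decide), lk 2 5 _ _ (by norm_num) (by decide)⟩
  · simp only [List.forall_mem_cons, List.not_mem_nil, IsEmpty.forall_iff, implies_true, and_true]
    exact ⟨lk 3 4 _ _ (by norm_num) (by decide), lk 3 5 _ _ (by norm_num) (by decide)⟩
  · intro b hbm
    have key : ∀ (hb : b ∈ link D i),
        (¬ Commute (pj ia) (pj hb) ∧ ¬ Commute (pj ic) (pj hb) ∧ Commute (pj id') (pj hb) ∧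
          Commute (pj ik) (pj hb) ∧ Commute (pj fi') (pj hb)) →
        ¬ Commute a b ∧ ¬ Commute c b ∧ Commute d b ∧ Commute k b ∧ Commute f b ∧ Commute i b := by
      intro hb h5
      simp only [S.pj_comm hi _ hb] at h5
      exact ⟨h5.1, h5.2.1, h5.2.2.1, h5.2.2.2.1, h5.2.2.2.2, hb.2.2⟩
    simp only [List.mem_cons, List.not_mem_nil, or_false] at hbm
    rcases hbm with rfl | rfl | rfl
    · exact key hb₁ (hq _ (by simp)).2
    · exact key hb₂ (hq _ (by simp)).2
    · exact key hb₃ (hq _ (by simp)).2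

/-- Ten members in every group satisfying the core conditions of type `M(23)`. -/
theorem exists_ten {p j : G} (hp : p ∈ D) (hj : j ∈ D) (hnc : ¬ Commute p j) : ∃ x, Ten D p j x := by
  classical
  have P := M23.pairData S
  obtain ⟨a, c, d, k, f, h, i, b₁, b₂, b₃, hW, hla, hlc, hlk, hld, hlf, ncd, ndk, nkf, ndh, nhi, n12, n13,
    n23, hb⟩ := exists_seven_three S hp hj hnc
  simp only [List.forall_mem_cons, List.not_mem_nil, IsEmpty.forall_iff, implies_true, and_true]
    at hW hla hlc hlk hld hlf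
  obtain ⟨wa, wc, wd, wk, wf, wh, wi, w₁, w₂, w₃⟩ := hW
  obtain ⟨lac, lad, lak, laf, lah, lai⟩ := hla
  obtain ⟨lck, lcf, lch, lci⟩ := hlc
  obtain ⟨lkh, lki⟩ := hlk
  obtain ⟨ldf, ldi⟩ := hld
  obtain ⟨lfh, lfi⟩ := hlf
  have T := S.link_setup hp
  obtain ⟨e, he⟩ := M22.exists_fi22_iso T
  let im : G → Q D p := fun u => if hu : u ∈ link D p then pj hu else 1
  have him : ∀ {u : G} (hu : u ∈ link D p), im u = pj hu := fun hu => dif_pos hu
  set W := im '' common D p j with hW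
  have hWD : W ⊆ E D p := by
    rintro _ ⟨u, hu, rfl⟩
    exact him hu.1 ▸ pj_mem hu.1
  have hWc : ∀ u ∈ W, ∀ v ∈ W, u * v * u⁻¹ ∈ W := by
    rintro _ ⟨u, hu, rfl⟩ _ ⟨v, hv, rfl⟩
    have hcm : u * v * u⁻¹ ∈ common D p j :=
      FischerPair.dSub_conj_mem S.tt hu.1.2.2.symm hu.2.2.2.symm hv
    refine ⟨_, hcm, ?_⟩
    rw [him hu.1, him hv.1, him hcm.1]
    rfl
  have hWn : W.ncard ≤ 351 :=
    (Set.ncard_image_le (Set.toFinite _)).trans (M23.common_ncard_eq S hp hj hnc).le
  have wm : ∀ {u : G}, u ∈ common D p j → im u ∈ W := fun hu => ⟨_, hu, rfl⟩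
  have lnk : ∀ {u v : G}, u ∈ common D p j → v ∈ common D p j → v ∈ link D u →
      im v ∈ link (E D p) (im u) := fun hu hv h' => by
    rw [him hu.1, him hv.1]; exact (S.pj_link hp hu.1 hv.1).2 h'
  have cmm : ∀ {u v : G}, u ∈ common D p j → v ∈ common D p j →
      (Commute (im u) (im v) ↔ Commute u v) := fun hu hv => by
    rw [him hu.1, him hv.1]; exact S.pj_comm hp hu.1 hv.1
  have inj : ∀ {u v : G}, u ∈ common D p j → v ∈ common D p j → im u = im v → u = v := fun hu hv h' => by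
    rw [him hu.1, him hv.1] at h'; exact S.pj_inj hp hu.1 hv.1 h'
  obtain ⟨nine, hn⟩ := exists_nine T e he hWD hWc hWn (wm wa) (wm wc) (wm wk) (wm wd) (wm wf) (wm wh) (wm wi)
    (lnk wa wc lac) (lnk wa wk lak) (lnk wa wd lad) (lnk wa wf laf) (lnk wa wh lah) (lnk wa wi lai)
    (lnk wc wk lck) (lnk wc wf lcf) (lnk wc wh lch) (lnk wc wi lci) (lnk wk wh lkh) (lnk wk wi lki)
    (lnk wd wf ldf) (lnk wd wi ldi) (lnk wf wh lfh) (lnk wf wi lfi)
    (fun h' => ncd ((cmm wc wd).1 h')) (fun h' => ndk ((cmm wd wk).1 h')) (fun h' => nkf ((cmm wk wf).1 h'))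
    (fun h' => ndh ((cmm wd wh).1 h')) (fun h' => nhi ((cmm wh wi).1 h'))
    (b₁ := im b₁) (b₂ := im b₂) (b₃ := im b₃)
    (fun h' => n12 (inj w₁ w₂ h')) (fun h' => n13 (inj w₁ w₃ h')) (fun h' => n23 (inj w₂ w₃ h'))
    (by
      simp only [List.forall_mem_cons, List.not_mem_nil, IsEmpty.forall_iff, implies_true, and_true] at hb ⊢
      simp only [cmm wa w₁, cmm wc w₁, cmm wd w₁, cmm wk w₁, cmm wf w₁, cmm wi w₁, cmm wa w₂, cmm wc w₂,
        cmm wd w₂, cmm wk w₂, cmm wf w₂, cmm wi w₂, cmm wa w₃, cmm wc w₃, cmm wd w₃, cmm wk w₃, cmm wf w₃,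
        cmm wi w₃]
      exact ⟨⟨wm w₁, hb.1⟩, ⟨wm w₂, hb.2.1⟩, ⟨wm w₃, hb.2.2⟩⟩)
  let q' : ℕ → Q D p := fun m => if m < 9 then nine m else im a
  have hq' : ∀ m, q' m ∈ E D p := fun m => by
    by_cases hm : m < 9
    · simp only [q', hm, if_true]; exact hn.mem m hm
    · simp only [q', hm, if_false]; exact hWD (wm wa)
  choose x hx hxq using fun m => M23.Setup.pj_surj (hq' m)
  have hx9 : ∀ m, m < 9 → pj (hx m) = nine m := fun m hm => by rw [hxq m]; exact if_pos hm
  have near : ∀ m, m < 9 → m ≠ 6 → x m ∈ common D p j := by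
    intro m hm h6
    obtain ⟨u, hu, hue⟩ := hn.inW m hm h6
    rw [him hu.1, ← hx9 m hm] at hue
    exact S.pj_inj hp hu.1 (hx m) hue ▸ hu
  have far : ¬ Commute (x 6) j := by
    intro h'
    refine hn.outside ⟨x 6, ⟨hx 6, (hx 6).1, fun h'' => ?_, h'.symm⟩, ?_⟩
    · exact hnc (h'' ▸ (hx 6).2.2)
    · rw [him (hx 6), hx9 6 (by norm_num)]
  refine ⟨x, hp, hj, hnc, fun m _ => hx m, near, far, fun u v hu hv => ?_, fun w hw => ?_, ?_⟩
  · rw [← S.pj_comm hp (hx u) (hx v), hx9 u hu, hx9 v hv]; exact hn.comm u v hu hv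
  · set P' : ↥(linkSub D p) :=
      (w.map fun m => (⟨x m, Subgroup.subset_closure (hx m)⟩ : ↥(linkSub D p))).prod with hP'
    have hval : (P' : G) = (w.map x).prod := by
      rw [hP', ← Subgroup.coe_subtype, map_list_prod, List.map_map]
      rfl
    have himg : (P' : Q D p) = 1 := by
      rw [hP', ← QuotientGroup.mk'_apply, map_list_prod, List.map_map, ← hn.rel w hw]
      refine congrArg List.prod (List.map_congr_left fun m hm => ?_)
      exact hx9 m (relIdx_lt w hw m hm).1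
    rcases pj_eq_one_cases S hp P'.2 himg with h1 | h1
    · rw [← hval, h1]
    · exfalso
      refine hnc ?_
      rw [← h1, hval]
      refine Commute.list_prod_left _ _ fun y hy => ?_
      obtain ⟨m, hm, rfl⟩ := List.mem_map.1 hy
      exact (near m (relIdx_lt w hw m hm).1 (relIdx_lt w hw m hm).2).2.2.2.symm
  · obtain ⟨φ, hφ⟩ := hn.mirrored
    have hle : dSub D p j ≤ linkSub D p := Subgroup.closure_mono fun u hu => hu.1
    let π : ↥(dSub D p j) →* Q D p := (QuotientGroup.mk' _).comp (Subgroup.inclusion hle)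
    have hinj : Function.Injective π := by
      refine (injective_iff_map_eq_one π).2 fun u hu => Subtype.ext ?_
      rcases pj_eq_one_cases S hp (hle u.2) hu with h1 | h1
      · exact h1
      · exfalso
        have h2 := (FischerPair.dSub_commute u.2).2
        rw [h1] at h2
        exact hnc h2
    have hrange : π.range = Subgroup.closure W := by
      rw [MonoidHom.range_eq_map, ← Subgroup.closure_closure_coe_preimage, MonoidHom.map_closure]
      congr 1
      ext y
      constructor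
      · rintro ⟨⟨u, hu'⟩, hu, rfl⟩
        exact ⟨u, hu, (him (show u ∈ common D p j from hu).1).trans rfl⟩
      · rintro ⟨u, hu, rfl⟩
        exact ⟨⟨u, Subgroup.subset_closure hu⟩, hu, (him hu.1).symm⟩
    have height : Fi22P.subK.map φ.toMonoidHom = Subgroup.closure W := by
      show (Subgroup.closure {m | ∃ w ∈ Fi22P.sO7, PresCert.act Fi22P.fiGen w = m}).map φ.toMonoidHom = _
      rw [MonoidHom.map_closure]
      refine le_antisymm ((Subgroup.closure_le _).2 ?_) ((Subgroup.closure_le _).2 fun y hy => ?_)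
      · rintro _ ⟨_, ⟨w, hw, rfl⟩, rfl⟩
        obtain ⟨m, hm, hm0, rfl⟩ : ∃ m, m < 9 ∧ m ≠ 0 ∧ w = [m] := by
          revert w; decide
        refine Subgroup.subset_closure ?_
        show φ (PresCert.act Fi22P.fiGen [m]) ∈ W
        rw [show PresCert.act Fi22P.fiGen [m] = Fi22P.fiGen m from one_mul _, hφ m hm]
        exact hn.inW _ (mirror_range m hm hm0).1 (mirror_range m hm hm0).2
      · have := hn.gen hy
        refine (Subgroup.closure_le _).2 ?_ this
        rintro _ ⟨i, hi, hi6, rfl⟩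
        obtain ⟨m, hm, hm0, hme⟩ := mirror_onto i hi hi6
        refine Subgroup.subset_closure ⟨PresCert.act Fi22P.fiGen [m], ⟨[m], ?_, rfl⟩, ?_⟩
        · revert hm0; revert hm; clear hme; revert m; decide
        · show φ (PresCert.act Fi22P.fiGen [m]) = nine i
          rw [show PresCert.act Fi22P.fiGen [m] = Fi22P.fiGen m from one_mul _, hφ m hm, hme]
    obtain ⟨o⟩ := Fi22P.subK_iso
    exact ⟨((MonoidHom.ofInjective hinj).trans (MulEquiv.subgroupCongr (hrange.trans height.symm))).trans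
      ((Subgroup.equivMapOfInjective Fi22P.subK φ.toMonoidHom φ.injective).symm.trans o)⟩

end CfsgLib.M23Core

namespace CfsgLib.M23

open CfsgLib.ThreeTransp CfsgLib.FischerPair

variable {G : Type*} [Group G] [Finite G] {D : Set G}

/-- The core conditions imply being of type `M(23)`, reflection condition included. -/
theorem Setup.isOfType (S : Setup D) : Cfsg.IsOfTypeM23 G D := by
  obtain ⟨p, hp, j, hj, hnc⟩ := S.exists_noncommuting
  obtain ⟨x, T⟩ := M23Core.exists_ten S hp hj hnc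
  obtain ⟨o⟩ := T.omega
  obtain ⟨r⟩ := RefSeven.quotient_equiv Plus8.Q7 Plus8.nondeg7 (c := 1) one_ne_zero Plus8.det7
  have hZ : Subgroup.center ↥(dSub D p j) = ⊥ := by
    refine eq_bot_iff.2 fun z hz => Subgroup.mem_bot.2 (Subtype.ext ?_)
    refine (pairData S).center hp hj hnc (dSub_commute z.2).1 (dSub_commute z.2).2 fun u hu => ?_
    exact congrArg Subtype.val (Subgroup.mem_center_iff.1 hz ⟨u, Subgroup.subset_closure hu⟩).symm
  refine ⟨S.type.1, p, hp, j, hj, hnc, S.link_type hp, 1, one_ne_zero, Plus8.Q7, Plus8.nondeg7, Plus8.det7,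
    ⟨?_⟩⟩
  exact ((QuotientGroup.quotientMulEquivOfEq hZ).trans QuotientGroup.quotientBot).trans (o.trans r.symm)

end CfsgLib.M23
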