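import Cfsg.Agent.Lib.ThreeTransp.M23Core.Defs

/-!
Kernel checks: the shape of the data.
-/

set_option autoImplicit false
set_option maxRecDepth 100000
set_option Elab.async false

namespace CfsgLib.M23Core

open CfsgLib.PresCert CfsgLib.Fi22P

theorem shape_ok : shapeOk = true := by decide +kernel

theorem frame_ok : frameOk = true := by decide +kernel

theorem qLeaf_ok : qLeafOk = true := by decide +kernel

theorem level_lens : (List.range 6).map (fun k => (levels.getD k []).length) = [1, 1, 1, 3, 3, 9] ∧
    (List.range 5).map (fun k => (qLevels.getD k []).length) = [1, 1, 1, 1, 3] ∧ pres 0 = [[0]] ∧ qPres 0 = [[0, 2]] ∧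
    leaves.length = 9 := by
  decide +kernel

theorem pair_ok : okMem (2, [1, 0]) = true ∧ fixes (0, []) 2 = false := by decide +kernel

end CfsgLib.M23Core
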