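import Cfsg.Agent.Lib.ThreeTransp.M23Core.Defs
import Cfsg.Agent.Lib.Fi22P.O8Base
import Cfsg.Agent.Lib.ThreeTransp.Transitive

/-!
The members of a group isomorphic to the presented Fischer group read from root words: commutation, moves and
closures as computed on the points.
-/

set_option autoImplicit false
set_option maxRecDepth 100000

namespace CfsgLib.M23Core

open CfsgLib.PresCert CfsgLib.Fi22P Cfsg.Spor
open CfsgLib.Fi22P.O8 (psi IsMem)

variable {G : Type*} [Group G] (e : Cfsg.Spor.Fi22 ≃* G)

/-- The member with a given root word. -/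
def el (m : Mem) : G := e (act fiGen (memWord m.2))

theorem okMem_spec {m : Mem} (h : okMem m = true) : tab.walk 0 m.2 = m.1 ∧ ∀ g ∈ m.2, g < 9 := by
  simp only [okMem, Bool.and_eq_true, Nat.beq_eq, List.all_eq_true, Nat.blt_eq] at h
  exact h

theorem memWord_lt {r : List ℕ} (hr : ∀ g ∈ r, g < 9) : ∀ g ∈ memWord r, g < 9 := by
  intro g hg
  simp only [memWord, List.mem_append, List.mem_reverse, List.mem_cons] at hg
  rcases hg with hg | rfl | hg
  exacts [hr g hg, by norm_num, hr g hg]

theorem el_isMem {m : Mem} (h : okMem m = true) : IsMem e (el e m) m.1 := by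
  obtain ⟨h1, h2⟩ := okMem_spec h
  refine ⟨act fiGen m.2, ?_, ?_⟩
  · rw [el, memWord, act_append, act_cons, act_reverse fiGen_sq h2]
    simp only [fA, act_cons, act_nil, one_mul]
  · rw [← h1]; exact realised.act_apply h2 _

theorem el_psi {m : Mem} (h : okMem m = true) (p : Fin tab.n) :
    (psi e (el e m) p).val = tab.walk p.val (memWord m.2) := by
  rw [el, O8.psi_act]
  exact realised.act_apply (memWord_lt (okMem_spec h).2) p

attribute [local irreducible] tab

theorem el_mem {m : Mem} (h : okMem m = true) : el e m ∈ e '' transp := (el_isMem e h).mem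

theorem exists_pt {x : G} (hx : x ∈ e '' transp) : ∃ p : Fin tab.n, IsMem e x p.val := by
  obtain ⟨t, ht, rfl⟩ := hx
  obtain ⟨c, rfl⟩ := isConj_iff.1 ht
  exact ⟨phi c ⟨0, zero_lt⟩, c, rfl, rfl⟩

theorem eq_el {m : Mem} (h : okMem m = true) {x : G} (hx : IsMem e x m.1) : x = el e m :=
  hx.unique e (el_isMem e h)

theorem mem_lt {x : G} {p : ℕ} (hx : IsMem e x p) : p < tab.n := by
  obtain ⟨c, -, rfl⟩ := hx
  exact Fin.isLt _

theorem fix_of_commute {g x : G} {q : Fin tab.n} (hx : IsMem e x q.val) (h : Commute g x) : psi e g q = q := by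
  have h1 := hx.conj e (g := g)
  rw [h.eq, mul_inv_cancel_right] at h1
  exact Fin.ext (IsMem.point e h1 hx)

theorem commute_of_fix {g x : G} {q : Fin tab.n} (hx : IsMem e x q.val) (h : psi e g q = q) : Commute g x := by
  have h1 := hx.conj e (g := g)
  rw [h] at h1
  exact mul_inv_eq_iff_eq_mul.1 (h1.unique e hx)

theorem fixes_iff {m : Mem} (hm : okMem m = true) {x : G} {q : ℕ} (hx : IsMem e x q) :
    fixes m q = true ↔ Commute (el e m) x := by
  rw [fixes, Nat.beq_eq]
  have hq := mem_lt e hx
  constructor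
  · intro h
    exact commute_of_fix e (q := ⟨q, hq⟩) hx (Fin.ext ((el_psi e hm _).trans h))
  · intro h
    exact (el_psi e hm ⟨q, hq⟩).symm.trans (congrArg Fin.val (fix_of_commute e (q := ⟨q, hq⟩) hx h))

theorem commute_el {m m' : Mem} (hm : okMem m = true) (hm' : okMem m' = true) :
    fixes m m'.1 = true ↔ Commute (el e m) (el e m') :=
  fixes_iff e hm (el_isMem e hm')

theorem el_inj {m m' : Mem} (hm : okMem m = true) (hm' : okMem m' = true) (h : el e m = el e m') :
    m.1 = m'.1 :=
  IsMem.point e (el_isMem e hm) (h ▸ el_isMem e hm')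

theorem testBit_maskOf : ∀ (l : List ℕ) (q : ℕ), (maskOf l).testBit q = true ↔ q ∈ l := by
  have key : ∀ (l : List ℕ) (M q : ℕ), (l.foldl (fun M p => Nat.lor M (2 ^ p)) M).testBit q = true ↔
      M.testBit q = true ∨ q ∈ l := by
    intro l
    induction l with
    | nil => intro M q; simp
    | cons p l ih =>
      intro M q
      rw [List.foldl_cons, ih, show Nat.lor M (2 ^ p) = M ||| 2 ^ p from rfl, Nat.testBit_or, Bool.or_eq_true,
        Nat.testBit_two_pow, decide_eq_true_eq, List.mem_cons]
      tauto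
  intro l q
  rw [maskOf, key]
  simp

theorem grow_spec {gens : List Mem} : ∀ {ents : List ℕ} {M : ℕ}, grow gens M ents = true →
    ((ents.map entPt).Nodup ∧ ∀ q ∈ ents.map entPt, M.testBit q = false) ∧
      ∀ P : ℕ → Prop, (∀ p, M.testBit p = true → P p) →
        (∀ p, ∀ j < gens.length, P p → P (tab.walk p (memWord (gens.getD j (0, [])).2))) →
          ∀ q ∈ ents.map entPt, P q
  | [], _, _ => by simp
  | a :: es, M, h => by
    simp only [grow, Bool.and_eq_true, Bool.not_eq_true', Nat.blt_eq, Nat.beq_eq] at h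
    obtain ⟨⟨⟨⟨h1, h2⟩, h3⟩, h4⟩, h5⟩ := h
    obtain ⟨⟨hnd, hnm⟩, hP⟩ := grow_spec h5
    have hor : ∀ q, (Nat.lor M (2 ^ entPt a)).testBit q = true ↔ M.testBit q = true ∨ entPt a = q := fun q => by
      rw [show Nat.lor M (2 ^ entPt a) = M ||| 2 ^ entPt a from rfl, Nat.testBit_or, Bool.or_eq_true,
        Nat.testBit_two_pow, decide_eq_true_eq]
    refine ⟨⟨?_, ?_⟩, fun P h0 hs q hq => ?_⟩
    · rw [List.map_cons, List.nodup_cons]
      refine ⟨fun hm => ?_, hnd⟩
      have := hnm _ hm
      rw [(hor _).2 (Or.inr rfl)] at this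
      exact Bool.noConfusion this
    · intro q hq
      rw [List.map_cons, List.mem_cons] at hq
      rcases hq with rfl | hq
      · exact h2
      · by_contra hc
        have := hnm q hq
        rw [(hor q).2 (Or.inl (by simpa using hc))] at this
        exact Bool.noConfusion this
    · have ha : P (entPt a) := h4 ▸ hs _ _ h3 (h0 _ h1)
      rw [List.map_cons, List.mem_cons] at hq
      rcases hq with rfl | hq
      · exact ha
      · exact hP P (fun p hp => ((hor p).1 hp).elim (h0 p) fun e' => e' ▸ ha) hs q hq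

theorem noDup_spec : ∀ {l : List ℕ}, noDup l = true → l.Nodup
  | [], _ => List.nodup_nil
  | x :: l, h => by
    simp only [noDup, Bool.and_eq_true, Bool.not_eq_true'] at h
    refine List.nodup_cons.2 ⟨fun hm => ?_, noDup_spec h.2⟩
    rw [List.contains_iff_mem.2 hm] at h
    exact Bool.noConfusion h.1

theorem steps_nodup {gens start : List Mem} {ents : List ℕ} (h : stepsOk gens start ents = true) :
    (allPts start ents).Nodup := by
  simp only [stepsOk, Bool.and_eq_true] at h
  obtain ⟨⟨hnd, hnm⟩, -⟩ := grow_spec h.2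
  refine List.nodup_append.2 ⟨noDup_spec h.1, hnd, fun a ha b hb e' => ?_⟩
  have := hnm b hb
  rw [(testBit_maskOf _ _).2 (e' ▸ ha)] at this
  exact Bool.noConfusion this

/-- What is true at the starting points and kept by the generators is true at all points. -/
theorem steps_ind {gens start : List Mem} {ents : List ℕ} (h : stepsOk gens start ents = true) {P : ℕ → Prop}
    (h0 : ∀ m ∈ start, P m.1) (hs : ∀ p, ∀ g ∈ gens, P p → P (tab.walk p (memWord g.2))) :
    ∀ q ∈ allPts start ents, P q := by
  simp only [stepsOk, Bool.and_eq_true] at h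
  have hP := (grow_spec h.2).2 P (fun p hp => by
      obtain ⟨m, hm, rfl⟩ := List.mem_map.1 ((testBit_maskOf _ _).1 hp)
      exact h0 m hm)
    fun p j hj hp => hs p _ (by rw [List.getD_eq_getElem _ _ hj]; exact List.getElem_mem hj) hp
  intro q hq
  rcases List.mem_append.1 hq with hq | hq
  · obtain ⟨m, hm, rfl⟩ := List.mem_map.1 hq
    exact h0 m hm
  · exact hP q hq

/-- The members at the points lie in a set closed under conjugation by its members. -/
theorem steps_sub {gens : List Mem} {ents : List ℕ} (h : stepsOk gens gens ents = true)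
    (hok : ∀ m ∈ gens, okMem m = true) {X : Set G} (hX : ∀ x ∈ X, ∀ y ∈ X, x * y * x⁻¹ ∈ X)
    (hm : ∀ m ∈ gens, el e m ∈ X) : ∀ q ∈ allPts gens ents, ∃ x ∈ X, IsMem e x q := by
  refine steps_ind h (fun m hmm => ⟨_, hm m hmm, el_isMem e (hok m hmm)⟩) fun p g hg ⟨x, hx, hxp⟩ => ?_
  have hp := mem_lt e hxp
  refine ⟨el e g * x * (el e g)⁻¹, hX _ (hm g hg) x hx, ?_⟩
  have h1 := IsMem.conj e (g := el e g) (p := ⟨p, hp⟩) hxp
  rwa [el_psi e (hok g hg)] at h1

/-- The members at the points are distinct, so there are at most as many as the set has. -/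
theorem steps_card [Finite G] {gens : List Mem} {ents : List ℕ} (h : stepsOk gens gens ents = true)
    (hok : ∀ m ∈ gens, okMem m = true) {X : Set G} (hX : ∀ x ∈ X, ∀ y ∈ X, x * y * x⁻¹ ∈ X)
    (hm : ∀ m ∈ gens, el e m ∈ X) : (allPts gens ents).length ≤ X.ncard := by
  classical
  have hs := steps_sub e h hok hX hm
  choose f hfX hfp using hs
  have := Set.ncard_le_ncard_of_injOn (s := {q | q ∈ allPts gens ents}) (t := X)
    (fun q => if hq : q ∈ allPts gens ents then f q hq else 1)
    (fun q hq => by rw [dif_pos (show q ∈ allPts gens ents from hq)]; exact hfX q hq)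
    (fun a ha b hb hab => by
      simp only [dif_pos (show a ∈ allPts gens ents from ha), dif_pos (show b ∈ allPts gens ents from hb)] at hab
      exact IsMem.point e (hfp a ha) (hab ▸ hfp b hb)) (Set.toFinite _)
  have hc : {q | q ∈ allPts gens ents}.ncard = (allPts gens ents).length := by
    rw [show {q | q ∈ allPts gens ents} = ↑(allPts gens ents).toFinset by ext; simp, Set.ncard_coe_finset,
      List.toFinset_card_of_nodup (steps_nodup h)]
  omega

end CfsgLib.M23Core
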