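import Cfsg.Agent.Lib.ThreeTransp.M23Core.Defs

/-!
Kernel checks: one orbit and its completions.
-/

set_option autoImplicit false
set_option maxRecDepth 100000
set_option Elab.async false

namespace CfsgLib.M23Core

open CfsgLib.PresCert CfsgLib.Fi22P

theorem leafFull1 : leafFull (leafNo 1) = true := by decide +kernel

theorem leafKind1 : leafKind (leafNo 1) = true := by decide +kernel

theorem cand1_ok0 : candOk (leafNo 1) 0 = true := by decide +kernel

theorem cand1_ok1 : candOk (leafNo 1) 1 = true := by decide +kernel

theorem cand1_ok2 : candOk (leafNo 1) 2 = true := by decide +kernel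

theorem cand1_ok3 : candOk (leafNo 1) 3 = true := by decide +kernel

theorem cand1_ok4 : candOk (leafNo 1) 4 = true := by decide +kernel

theorem cand1_ok5 : candOk (leafNo 1) 5 = true := by decide +kernel

theorem doneDiag1 : doneDiag (leafNo 1) = true := by decide +kernel

theorem doneRel1 : doneRel (leafNo 1) = true := by decide +kernel

theorem doneMirror1_0 : doneMirror (leafNo 1) 0 45 = true := by decide +kernel

theorem doneMirror1_1 : doneMirror (leafNo 1) 45 1 = true := by decide +kernel

theorem doneMirror1_2 : doneMirror (leafNo 1) 46 2 = true := by decide +kernel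

theorem doneEight1 : doneEight (leafNo 1) = true := by decide +kernel

theorem doneNine1 : doneNine (leafNo 1) = true := by decide +kernel

end CfsgLib.M23Core
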