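import Cfsg.Agent.Lib.ThreeTransp.M23Core.Defs

/-!
Kernel checks: one orbit and its completions.
-/

set_option autoImplicit false
set_option maxRecDepth 100000
set_option Elab.async false

namespace CfsgLib.M23Core

open CfsgLib.PresCert CfsgLib.Fi22P

theorem leafFull2 : leafFull (leafNo 2) = true := by decide +kernel

theorem leafKind2 : leafKind (leafNo 2) = true := by decide +kernel

theorem cand2_ok0 : candOk (leafNo 2) 0 = true := by decide +kernel

theorem cand2_ok1 : candOk (leafNo 2) 1 = true := by decide +kernel

theorem cand2_ok2 : candOk (leafNo 2) 2 = true := by decide +kernel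

theorem cand2_ok3 : candOk (leafNo 2) 3 = true := by decide +kernel

theorem cand2_ok4 : candOk (leafNo 2) 4 = true := by decide +kernel

theorem cand2_ok5 : candOk (leafNo 2) 5 = true := by decide +kernel

end CfsgLib.M23Core
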