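import Cfsg.Agent.Lib.ThreeTransp.M23Core.Defs

/-!
Kernel checks: one orbit and its completions.
-/

set_option autoImplicit false
set_option maxRecDepth 100000
set_option Elab.async false

namespace CfsgLib.M23Core

open CfsgLib.PresCert CfsgLib.Fi22P

theorem leafFull6 : leafFull (leafNo 6) = true := by decide +kernel

theorem leafKind6 : leafKind (leafNo 6) = true := by decide +kernel

theorem cand6_ok0 : candOk (leafNo 6) 0 = true := by decide +kernel

theorem cand6_ok1 : candOk (leafNo 6) 1 = true := by decide +kernel

theorem cand6_ok2 : candOk (leafNo 6) 2 = true := by decide +kernel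

theorem cand6_ok3 : candOk (leafNo 6) 3 = true := by decide +kernel

theorem cand6_ok4 : candOk (leafNo 6) 4 = true := by decide +kernel

theorem cand6_ok5 : candOk (leafNo 6) 5 = true := by decide +kernel

theorem doneDiag6 : doneDiag (leafNo 6) = true := by decide +kernel

theorem doneRel6 : doneRel (leafNo 6) = true := by decide +kernel

theorem doneMirror6_0 : doneMirror (leafNo 6) 0 45 = true := by decide +kernel

theorem doneMirror6_1 : doneMirror (leafNo 6) 45 1 = true := by decide +kernel

theorem doneMirror6_2 : doneMirror (leafNo 6) 46 2 = true := by decide +kernel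

theorem doneEight6 : doneEight (leafNo 6) = true := by decide +kernel

theorem doneNine6 : doneNine (leafNo 6) = true := by decide +kernel

end CfsgLib.M23Core
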