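import Cfsg.Agent.Lib.ThreeTransp.M23Core.Defs

/-!
Kernel checks: the last level.
-/

set_option autoImplicit false
set_option maxRecDepth 100000
set_option Elab.async false

namespace CfsgLib.M23Core

open CfsgLib.PresCert CfsgLib.Fi22P

theorem gens5_0 : nodeGens (nd levels 5 0) = true := by decide +kernel

theorem full5_0 : nodeFull (nd levels 5 0) = true := by decide +kernel

theorem gens5_1 : nodeGens (nd levels 5 1) = true := by decide +kernel

theorem full5_1 : nodeFull (nd levels 5 1) = true := by decide +kernel

theorem gens5_2 : nodeGens (nd levels 5 2) = true := by decide +kernel

theorem full5_2 : nodeFull (nd levels 5 2) = true := by decide +kernel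

theorem gens5_3 : nodeGens (nd levels 5 3) = true := by decide +kernel

theorem full5_3 : nodeFull (nd levels 5 3) = true := by decide +kernel

theorem gens5_4 : nodeGens (nd levels 5 4) = true := by decide +kernel

theorem full5_4 : nodeFull (nd levels 5 4) = true := by decide +kernel

theorem gens5_5 : nodeGens (nd levels 5 5) = true := by decide +kernel

theorem full5_5 : nodeFull (nd levels 5 5) = true := by decide +kernel

theorem gens5_6 : nodeGens (nd levels 5 6) = true := by decide +kernel

theorem full5_6 : nodeFull (nd levels 5 6) = true := by decide +kernel

theorem gens5_7 : nodeGens (nd levels 5 7) = true := by decide +kernel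

theorem full5_7 : nodeFull (nd levels 5 7) = true := by decide +kernel

theorem gens5_8 : nodeGens (nd levels 5 8) = true := by decide +kernel

theorem full5_8 : nodeFull (nd levels 5 8) = true := by decide +kernel

end CfsgLib.M23Core
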