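import Cfsg.Agent.Lib.ThreeTransp.M23Core.Defs

/-!
Kernel checks: the levels among the common neighbours.
-/

set_option autoImplicit false
set_option maxRecDepth 100000
set_option Elab.async false

namespace CfsgLib.M23Core

open CfsgLib.PresCert CfsgLib.Fi22P

theorem qGens0_0 : nodeGens (nd qLevels 0 0) = true := by decide +kernel

theorem qFull0_0 : nodeFull (nd qLevels 0 0) = true := by decide +kernel

theorem qGens1_0 : nodeGens (nd qLevels 1 0) = true := by decide +kernel

theorem qFull1_0 : nodeFull (nd qLevels 1 0) = true := by decide +kernel

theorem qGens2_0 : nodeGens (nd qLevels 2 0) = true := by decide +kernel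

theorem qFull2_0 : nodeFull (nd qLevels 2 0) = true := by decide +kernel

theorem qGens3_0 : nodeGens (nd qLevels 3 0) = true := by decide +kernel

theorem qFull3_0 : nodeFull (nd qLevels 3 0) = true := by decide +kernel

theorem qGens4_0 : nodeGens (nd qLevels 4 0) = true := by decide +kernel

theorem qFull4_0 : nodeFull (nd qLevels 4 0) = true := by decide +kernel

theorem qGens4_1 : nodeGens (nd qLevels 4 1) = true := by decide +kernel

theorem qFull4_1 : nodeFull (nd qLevels 4 1) = true := by decide +kernel

theorem qGens4_2 : nodeGens (nd qLevels 4 2) = true := by decide +kernel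

theorem qFull4_2 : nodeFull (nd qLevels 4 2) = true := by decide +kernel

end CfsgLib.M23Core
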