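import Cfsg.Agent.Lib.ThreeTransp.M23Core.Orbits
import Cfsg.Agent.Lib.ThreeTransp.M23Core.CheckLeaf0
import Cfsg.Agent.Lib.ThreeTransp.M23Core.CheckLeaf1
import Cfsg.Agent.Lib.ThreeTransp.M23Core.CheckLeaf2
import Cfsg.Agent.Lib.ThreeTransp.M23Core.CheckLeaf3
import Cfsg.Agent.Lib.ThreeTransp.M23Core.CheckLeaf4
import Cfsg.Agent.Lib.ThreeTransp.M23Core.CheckLeaf5
import Cfsg.Agent.Lib.ThreeTransp.M23Core.CheckLeaf6
import Cfsg.Agent.Lib.ThreeTransp.M23Core.CheckLeaf7
import Cfsg.Agent.Lib.ThreeTransp.M23Core.CheckLeaf8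

/-!
In a group isomorphic to the presented Fischer group a small set closed under conjugation containing seven members
with the pattern and three completions is the class of the 351 members of eight members of a diagram `Y₃₃₂`; the
nine satisfy the two relators of `Fi₂₃`, and an automorphism mirrors the diagram.
-/

set_option autoImplicit false
set_option maxRecDepth 100000

namespace CfsgLib.M23Core

open CfsgLib.PresCert CfsgLib.Fi22P Cfsg.Spor
open CfsgLib.Fi22P.O8 (psi IsMem)

attribute [local irreducible] tab levels qLevels leaves qLeaves pres qPres relData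

variable {G : Type*} [Group G]

/-- Nine members of `D` with the diagram, eight of them generating `W`, the ninth outside. -/
structure Nine (D W : Set G) (nine : ℕ → G) : Prop where
  mem : ∀ k, k < 9 → nine k ∈ D
  inW : ∀ k, k < 9 → k ≠ 6 → nine k ∈ W
  outside : nine 6 ∉ W
  comm : ∀ u v, u < 9 → v < 9 → (Commute (nine u) (nine v) ↔ nineEdge u v = false)
  ne : ∀ u v, u < 9 → v < 9 → u ≠ v → nine u ≠ nine v
  rel : ∀ w ∈ relIdx, (w.map nine).prod = 1
  mirrored : ∃ φ : Cfsg.Spor.Fi22 ≃* G, ∀ k, k < 9 → φ (fiGen k) = nine (mirror.getD k 0)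
  gen : W ⊆ Subgroup.closure {x | ∃ k, k < 9 ∧ k ≠ 6 ∧ x = nine k}

theorem act_prod {M : Type*} [Group M] (gen : ℕ → M) :
    ∀ w : List ℕ, act gen w.reverse = (w.map gen).prod
  | [] => rfl
  | a :: w => by
    rw [List.reverse_cons, act_append, act_cons, act_nil, one_mul, act_prod gen w, List.map_cons, List.prod_cons]

theorem lift_act {M : Type*} [Group M] (f : Fi22.Gen → M) (hsq : ∀ x, f x * f x = 1)
    (L : List (Fi22.Gen × Bool)) :
    FreeGroup.lift f (FreeGroup.mk L) =
      act (fun k => f (fiData.at'.getD k fiData.dflt)) (L.map fun p => fiData.ix p.1).reverse := by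
  induction L with
  | nil =>
    rw [← FreeGroup.one_eq_mk, map_one]
    rfl
  | cons p L ih =>
    obtain ⟨x, b⟩ := p
    rw [show FreeGroup.mk ((x, b) :: L) = FreeGroup.mk [(x, b)] * FreeGroup.mk L from rfl, map_mul, ih,
      List.map_cons, List.reverse_cons, act_append, act_cons, act_nil, one_mul]
    congr 1
    rw [fi_ok.at_ix]
    cases b
    · rw [show FreeGroup.mk [(x, false)] = (FreeGroup.of x)⁻¹ from rfl, map_inv, FreeGroup.lift_apply_of]
      exact inv_eq_of_mul_eq_one_right (hsq x)
    · exact FreeGroup.lift_apply_of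

/-- Generators satisfying the listed relations give a homomorphism. -/
theorem exists_hom {M : Type*} [Group M] (img : ℕ → M) (hsq : ∀ k, k < 9 → img k * img k = 1)
    (hrel : ∀ w ∈ relData, act img w = 1) : ∃ φ : Cfsg.Spor.Fi22 →* M, ∀ k, k < 9 → φ (fiGen k) = img k := by
  let f : Fi22.Gen → M := fun x => img (genIx x)
  have hf : ∀ w : List ℕ, (∀ g ∈ w, g < 9) → act (fun k => f (fiData.at'.getD k fiData.dflt)) w = act img w :=
    fun w hw => act_congr' fun a ha => congrArg img (fi_ok.ix_at a (hw a ha))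
  refine ⟨PresentedGroup.toGroup (f := f) fun r hr => ?_, fun k hk => ?_⟩
  · rw [← FreeGroup.mk_toWord (x := r), lift_act f (fun x => hsq _ (fi_ok.ix_lt x))]
    have hcov := rels_covered
    simp only [CoxData.covered, List.all_eq_true, Bool.and_eq_true, Bool.or_eq_true, Nat.blt_eq,
      List.contains_iff_mem] at hcov
    obtain ⟨hlt, hm⟩ := hcov _ (List.mem_map.2 ⟨r, CoxData.relList_mem.2 hr, rfl⟩)
    rw [hf _ hlt]
    rcases hm with hm | hm
    · exact hrel _ hm
    · have h2 := hrel _ hm
      rw [act_reverse (ng := 9) hsq hlt, inv_eq_one] at h2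
      exact h2
  · show PresentedGroup.toGroup _ (PresentedGroup.of _) = _
    rw [PresentedGroup.toGroup.of]
    exact congrArg img (fi_ok.ix_at k hk)

variable [Finite G] (e : Cfsg.Spor.Fi22 ≃* G)

theorem el_sq {m : Mem} (h : okMem m = true) : el e m * el e m = 1 := by
  obtain ⟨t, ht, he⟩ := el_mem e h
  obtain ⟨c, rfl⟩ := isConj_iff.1 ht
  rw [← he, ← map_mul, show c * fA * c⁻¹ * (c * fA * c⁻¹) = c * (fA * fA) * c⁻¹ by group, fA_sq, mul_one,
    mul_inv_cancel, map_one]

theorem el_ne_one {m : Mem} (h : okMem m = true) : el e m ≠ 1 := by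
  obtain ⟨t, ht, he⟩ := el_mem e h
  obtain ⟨c, rfl⟩ := isConj_iff.1 ht
  intro h1
  rw [← he, MulEquiv.map_eq_one_iff, conj_eq_one_iff] at h1
  have := fA_order
  rw [h1, orderOf_one] at this
  exact absurd this (by norm_num)

theorem el_of_base {nine : List Mem} {w : List ℕ} (hw : ∀ a ∈ w, a < nine.length)
    (h : sameBase (CfsgLib.PresCert.expand (nine.map fun m => memWord m.2) w) [] = true) :
    act (fun a => el e (nine.getD a (0, []))) w = 1 := by
  have h1 := congrArg e (eq_of_base h)
  rw [act_nil, map_one, act_expand] at h1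
  have h2 := map_act e.toMonoidHom (fun a => act fiGen ((nine.map fun m => memWord m.2).getD a [])) w
  rw [show act (fun a => el e (nine.getD a (0, []))) w =
    act (fun a => e.toMonoidHom (act fiGen ((nine.map fun m => memWord m.2).getD a []))) w from ?_, ← h2]
  · exact h1
  · refine act_congr' fun a ha => ?_
    rw [List.getD_eq_getElem _ _ (hw a ha), List.getD_eq_getElem _ _ (by rw [List.length_map]; exact hw a ha),
      List.getElem_map]
    rfl

theorem leaf_checks {l : Leaf} (hl : l ∈ leaves) : leafFull l = true ∧ leafKind l = true ∧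
    (∀ j, j < 6 → candOk l j = true) ∧ l.cands.length = 6 ∧ doneDiag l = true ∧ doneRel l = true ∧
      doneMirror l 0 45 = true ∧ doneMirror l 45 1 = true ∧ doneMirror l 46 2 = true ∧ doneEight l = true ∧
        doneNine l = true := by
  obtain ⟨i, hi, rfl⟩ := List.getElem_of_mem hl
  have e1 : leafNo i = leaves[i] := List.getD_eq_getElem _ _ hi
  rw [level_lens.2.2.2.2] at hi
  rw [← e1]
  interval_cases i
  · refine ⟨leafFull0, leafKind0, fun j hj => ?_, ?_, doneDiag0, doneRel0, doneMirror0_0, doneMirror0_1,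
      doneMirror0_2, doneEight0, doneNine0⟩
    · interval_cases j
      exacts [cand0_ok0, cand0_ok1, cand0_ok2, cand0_ok3, cand0_ok4, cand0_ok5]
    · with_unfolding_all rfl
  · refine ⟨leafFull1, leafKind1, fun j hj => ?_, ?_, doneDiag1, doneRel1, doneMirror1_0, doneMirror1_1,
      doneMirror1_2, doneEight1, doneNine1⟩
    · interval_cases j
      exacts [cand1_ok0, cand1_ok1, cand1_ok2, cand1_ok3, cand1_ok4, cand1_ok5]
    · with_unfolding_all rfl
  · refine ⟨leafFull2, leafKind2, fun j hj => ?_, ?_, (by with_unfolding_all rfl), (by with_unfolding_all rfl), (by with_unfolding_all rfl), (by with_unfolding_all rfl),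
      (by with_unfolding_all rfl), (by with_unfolding_all rfl), (by with_unfolding_all rfl)⟩
    · interval_cases j
      exacts [cand2_ok0, cand2_ok1, cand2_ok2, cand2_ok3, cand2_ok4, cand2_ok5]
    · with_unfolding_all rfl
  · refine ⟨leafFull3, leafKind3, fun j hj => ?_, ?_, doneDiag3, doneRel3, doneMirror3_0, doneMirror3_1,
      doneMirror3_2, doneEight3, doneNine3⟩
    · interval_cases j
      exacts [cand3_ok0, cand3_ok1, cand3_ok2, cand3_ok3, cand3_ok4, cand3_ok5]
    · with_unfolding_all rfl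
  · refine ⟨leafFull4, leafKind4, fun j hj => ?_, ?_, (by with_unfolding_all rfl), (by with_unfolding_all rfl), (by with_unfolding_all rfl), (by with_unfolding_all rfl),
      (by with_unfolding_all rfl), (by with_unfolding_all rfl), (by with_unfolding_all rfl)⟩
    · interval_cases j
      exacts [cand4_ok0, cand4_ok1, cand4_ok2, cand4_ok3, cand4_ok4, cand4_ok5]
    · with_unfolding_all rfl
  · refine ⟨leafFull5, leafKind5, fun j hj => ?_, ?_, doneDiag5, doneRel5, doneMirror5_0, doneMirror5_1,
      doneMirror5_2, doneEight5, doneNine5⟩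
    · interval_cases j
      exacts [cand5_ok0, cand5_ok1, cand5_ok2, cand5_ok3, cand5_ok4, cand5_ok5]
    · with_unfolding_all rfl
  · refine ⟨leafFull6, leafKind6, fun j hj => ?_, ?_, doneDiag6, doneRel6, doneMirror6_0, doneMirror6_1,
      doneMirror6_2, doneEight6, doneNine6⟩
    · interval_cases j
      exacts [cand6_ok0, cand6_ok1, cand6_ok2, cand6_ok3, cand6_ok4, cand6_ok5]
    · with_unfolding_all rfl
  · refine ⟨leafFull7, leafKind7, fun j hj => ?_, ?_, (by with_unfolding_all rfl), (by with_unfolding_all rfl), (by with_unfolding_all rfl), (by with_unfolding_all rfl),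
      (by with_unfolding_all rfl), (by with_unfolding_all rfl), (by with_unfolding_all rfl)⟩
    · interval_cases j
      exacts [cand7_ok0, cand7_ok1, cand7_ok2, cand7_ok3, cand7_ok4, cand7_ok5]
    · with_unfolding_all rfl
  · refine ⟨leafFull8, leafKind8, fun j hj => ?_, ?_, doneDiag8, doneRel8, doneMirror8_0, doneMirror8_1,
      doneMirror8_2, doneEight8, doneNine8⟩
    · interval_cases j
      exacts [cand8_ok0, cand8_ok1, cand8_ok2, cand8_ok3, cand8_ok4, cand8_ok5]
    · with_unfolding_all rfl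

theorem nine_mem_nineOf {l : Leaf} {b g : Mem} (hs : l.seven.length = 7) (k : ℕ) (hk : k < 9) :
    (nineOf l.seven b g).getD k (0, []) = g ∧ k = 6 ∨
      ((nineOf l.seven b g).getD k (0, []) ∈ eightOf l.seven b ∧ k ≠ 6) := by
  interval_cases k <;> simp [nineOf, eightOf]

/-- The set is read off a completed leaf. -/
theorem leaf_nine {l : Leaf} (hl : l ∈ leaves) {W : Set G} (hW : ∀ x ∈ W, ∀ y ∈ W, x * y * x⁻¹ ∈ W)
    (hWn : W.ncard ≤ 351) (hseven : ∀ m ∈ l.seven, el e m ∈ W)
    {b₁ b₂ b₃ : Mem} (hb₁ : b₁ ∈ l.cands.map Cand.mem) (hb₂ : b₂ ∈ l.cands.map Cand.mem)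
    (hb₃ : b₃ ∈ l.cands.map Cand.mem) (n12 : b₁.1 ≠ b₂.1) (n13 : b₁.1 ≠ b₃.1) (n23 : b₂.1 ≠ b₃.1)
    (w₁ : el e b₁ ∈ W) (w₂ : el e b₂ ∈ W) (w₃ : el e b₃ ∈ W) :
    ∃ nine, Nine (e '' transp) W nine := by
  classical
  obtain ⟨hfull, hkind, hcand, hclen, hdiag, hrel, hm0, hm1, hm2, height, hnine⟩ := leaf_checks hl
  simp only [leafFull, Bool.and_eq_true, List.all_eq_true, Nat.beq_eq] at hfull
  obtain ⟨⟨⟨⟨hlen, hsok⟩, -⟩, hcok⟩, -⟩ := hfull
  have hbig : ∀ c ∈ l.cands, bigB c = true → el e c.mem ∉ W := by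
    intro c hc hb hcW
    obtain ⟨j, hj, rfl⟩ := List.getElem_of_mem hc
    have h1 := hcand j (hclen ▸ hj)
    rw [candOk, List.getElem?_eq_getElem hj] at h1
    have h2 := steps_card e (X := W) h1 (fun m hm => ?_) hW (fun m hm => ?_)
    · simp only [bigB, Nat.ble_eq] at hb
      simp only [allPts, List.length_append, List.length_map, hlen, List.length_cons, List.length_nil] at h2
      omega
    · rcases List.mem_append.1 hm with h | h
      · exact hsok m h
      · rw [List.mem_singleton.1 h]; exact hcok _ hc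
    · rcases List.mem_append.1 hm with h | h
      · exact hseven m h
      · rw [List.mem_singleton.1 h]; exact hcW
  obtain ⟨c, hc, hcW, hcs⟩ : ∃ c ∈ l.cands, el e c.mem ∈ W ∧
      (l.done = none → False) ∧ ∀ b g ko no, l.done = some (b, g, ko, no) →
        (allPts (l.seven ++ [c.mem]) c.ents).contains b.1 = true := by
    obtain ⟨c₁, hc₁, rfl⟩ := List.mem_map.1 hb₁
    obtain ⟨c₂, hc₂, rfl⟩ := List.mem_map.1 hb₂
    obtain ⟨c₃, hc₃, rfl⟩ := List.mem_map.1 hb₃
    have hs₁ : bigB c₁ = false := Bool.eq_false_iff.2 fun h => hbig _ hc₁ h w₁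
    have hs₂ : bigB c₂ = false := Bool.eq_false_iff.2 fun h => hbig _ hc₂ h w₂
    have hs₃ : bigB c₃ = false := Bool.eq_false_iff.2 fun h => hbig _ hc₃ h w₃
    refine ⟨c₁, hc₁, w₁, fun hn => ?_, fun b g ko no hd => ?_⟩
    · simp only [leafKind, hn, Nat.ble_eq] at hkind
      have hsub : [c₁, c₂, c₃].Subperm (l.cands.filter fun c => !bigB c) := by
        refine List.subperm_of_subset ?_ ?_
        · have a : c₁ ≠ c₂ := fun h => n12 (by rw [h])
          have b : c₁ ≠ c₃ := fun h => n13 (by rw [h])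
          have c : c₂ ≠ c₃ := fun h => n23 (by rw [h])
          simp [a, b, c]
        · intro x hx
          simp only [List.mem_cons, List.not_mem_nil, or_false] at hx
          rcases hx with rfl | rfl | rfl <;> simp [hc₁, hc₂, hc₃, hs₁, hs₂, hs₃]
      have := hsub.length_le
      simp only [List.length_cons, List.length_nil] at this
      omega
    · simp only [leafKind, hd, List.all_eq_true, Bool.or_eq_true] at hkind
      exact (hkind c₁ hc₁).resolve_left (by simp [hs₁])
  obtain hnone | ⟨⟨b, g, ko, no⟩, hdone⟩ : l.done = none ∨ ∃ q, l.done = some q := by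
    cases h : l.done
    exacts [Or.inl rfl, Or.inr ⟨_, rfl⟩]
  · exact (hcs.1 hnone).elim
  simp only [doneDiag, hdone, Bool.and_eq_true, List.all_eq_true, List.mem_range] at hdiag
  obtain ⟨⟨hbok, hgok⟩, hd9⟩ := hdiag
  have hbW : el e b ∈ W := by
    obtain ⟨j, hj, rfl⟩ := List.getElem_of_mem hc
    have h1 := hcand j (hclen ▸ hj)
    rw [candOk, List.getElem?_eq_getElem hj] at h1
    obtain ⟨x, hx, hxb⟩ := steps_sub e (X := W) h1 (fun m hm => by
        rcases List.mem_append.1 hm with h | h
        · exact hsok m h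
        · rw [List.mem_singleton.1 h]; exact hcok _ hc) hW (fun m hm => by
        rcases List.mem_append.1 hm with h | h
        · exact hseven m h
        · rw [List.mem_singleton.1 h]; exact hcW) _ (List.contains_iff_mem.1 (hcs.2 b g ko no hdone))
    rwa [eq_el e hbok hxb] at hx
  have hget : ∀ j, j < 7 → l.seven.getD j (0, []) ∈ l.seven := fun j hj => by
    rw [List.getD_eq_getElem _ _ (hlen.symm ▸ hj)]
    exact List.getElem_mem _
  have h8 : ∀ m ∈ eightOf l.seven b, okMem m = true ∧ el e m ∈ W := by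
    intro m hm
    simp only [eightOf, List.mem_cons, List.not_mem_nil, or_false] at hm
    rcases hm with rfl | rfl | rfl | rfl | rfl | rfl | rfl | rfl
    all_goals first
      | exact ⟨hbok, hbW⟩
      | exact ⟨hsok _ (hget _ (by norm_num)), hseven _ (hget _ (by norm_num))⟩
  simp only [doneEight, hdone, Bool.and_eq_true, Nat.beq_eq] at height
  simp only [doneNine, hdone, Bool.and_eq_true, Nat.beq_eq] at hnine
  have h9ok : ∀ m ∈ eightOf l.seven b ++ [g], okMem m = true := fun m hm => by
    rcases List.mem_append.1 hm with h | h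
    · exact (h8 m h).1
    · rw [List.mem_singleton.1 h]; exact hgok
  have hgW : el e g ∉ W := by
    intro hgW
    have h2 := steps_card e (X := W) hnine.1 h9ok hW (fun m hm => by
      rcases List.mem_append.1 hm with h | h
      · exact (h8 m h).2
      · rw [List.mem_singleton.1 h]; exact hgW)
    simp only [allPts, List.length_append, List.length_map, eightOf, List.length_cons, List.length_nil,
      hnine.2] at h2
    omega
  set N : ℕ → Mem := fun k => (nineOf l.seven b g).getD k (0, []) with hN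
  have hNok : ∀ k, k < 9 → okMem (N k) = true := fun k hk => by
    rcases nine_mem_nineOf (b := b) (g := g) hlen k hk with ⟨h, -⟩ | ⟨h, -⟩
    · exact (congrArg okMem h).trans hgok
    · exact (h8 _ h).1
  have hd' : ∀ u v, u < 9 → v < 9 → (fixes (N u) (N v).1 = !nineEdge u v) ∧
      (u ≠ v → (N u).1 ≠ (N v).1) := by
    intro u v hu hv
    obtain ⟨h1, h2⟩ := hd9 u hu v hv
    refine ⟨eq_of_beq h1, fun hne h => ?_⟩
    simp only [Bool.or_eq_true, Nat.beq_eq, Bool.not_eq_true'] at h2
    rcases h2 with h2 | h2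
    · exact hne h2
    · rw [show Nat.beq (N u).1 (N v).1 = true from Nat.beq_eq.mpr h] at h2
      exact Bool.noConfusion h2
  refine ⟨fun k => el e (N k), fun k hk => el_mem e (hNok k hk), fun k hk hk6 => ?_, ?_, fun u v hu hv => ?_,
    fun u v hu hv hne h => (hd' u v hu hv).2 hne (el_inj e (hNok u hu) (hNok v hv) h), ?_, ?_, ?_⟩
  · rcases nine_mem_nineOf (b := b) (g := g) hlen k hk with ⟨-, h⟩ | ⟨h, -⟩
    · exact absurd h hk6
    · exact (h8 _ h).2
  · have h : N 6 = g := by simp [hN, nineOf]
    show el e (N 6) ∉ W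
    rw [h]
    exact hgW
  · rw [← commute_el e (hNok u hu) (hNok v hv), (hd' u v hu hv).1, Bool.not_eq_true']
  · have hlt : ∀ w ∈ relIdx, ∀ a ∈ w, a < 9 := by decide +kernel
    simp only [doneRel, hdone, nineWords, List.all_eq_true] at hrel
    intro w hw
    rw [← act_prod]
    exact el_of_base e (fun a ha => by simpa [nineOf] using hlt w hw a (List.mem_reverse.1 ha)) (hrel w hw)
  · have hrd : ∀ w ∈ relData, (∀ a ∈ w, a < 9) ∧
        sameBase (CfsgLib.PresCert.expand (mirror.map fun i => (nineWords l).getD i []) w) [] = true := by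
      have hlt : relData.all (fun w => w.all fun a => Nat.blt a 9) = true := by decide +kernel
      intro w hw
      refine ⟨fun a ha => Nat.blt_eq.mp (List.all_eq_true.1 (List.all_eq_true.1 hlt w hw) a ha), ?_⟩
      have hsplit : relData = (relData.drop 0).take 45 ++ ((relData.drop 45).take 1 ++ (relData.drop 46).take 2) := by
        decide +kernel
      rw [hsplit, List.mem_append, List.mem_append] at hw
      simp only [doneMirror, hdone, List.all_eq_true] at hm0 hm1 hm2
      rcases hw with h | h | h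
      exacts [hm0 w h, hm1 w h, hm2 w h]
    have hmir : ∀ k, k < 9 → mirror.getD k 0 < 9 := by decide +kernel
    obtain ⟨φ, hφ⟩ := exists_hom (fun k => el e (N (mirror.getD k 0)))
      (fun k hk => el_sq e (hNok _ (hmir k hk))) fun w hw => by
        obtain ⟨hlt, hb⟩ := hrd w hw
        have hmap : (mirror.map fun i => (nineWords l).getD i []) = (mirror.map N).map fun m => memWord m.2 := by
          simp only [nineWords, hdone, hN, List.map_map]
          rfl
        rw [hmap] at hb
        have h3 := el_of_base e (fun a ha => by simpa [mirror] using hlt a ha) hb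
        rw [← h3]
        refine act_congr' fun a ha => ?_
        have ha9 := hlt a ha
        congr 1
        interval_cases a <;> rfl
    haveI := Fi22P.simple
    haveI := Fi22P.card_fi.1
    have hinj : Function.Injective φ := by
      rw [← MonoidHom.ker_eq_bot_iff]
      refine ((MonoidHom.normal_ker φ).eq_bot_or_eq_top).resolve_right fun h => el_ne_one e (hNok _ (hmir 0 (by norm_num))) ?_
      rw [← hφ 0 (by norm_num)]
      exact MonoidHom.mem_ker.1 (h ▸ Subgroup.mem_top _)
    exact ⟨MulEquiv.ofBijective φ ((Nat.bijective_iff_injective_and_card φ).2 ⟨hinj, Nat.card_congr e.toEquiv⟩),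
      hφ⟩
  · set E8 : Set G := {x | ∃ k, k < 9 ∧ k ≠ 6 ∧ x = el e (N k)}
    set X : Set G := W ∩ Subgroup.closure E8
    have hX : ∀ x ∈ X, ∀ y ∈ X, x * y * x⁻¹ ∈ X := fun x hx y hy =>
      ⟨hW x hx.1 y hy.1, mul_mem (mul_mem hx.2 hy.2) (inv_mem hx.2)⟩
    have h2 := steps_card e (X := X) height.1 (fun m hm => (h8 m hm).1) hX (fun m hm => ⟨(h8 m hm).2, by
      refine Subgroup.subset_closure ?_
      have hN8 : eightOf l.seven b = [0, 1, 2, 3, 4, 5, 7, 8].map N := by simp [hN, eightOf, nineOf]
      rw [hN8, List.mem_map] at hm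
      obtain ⟨k, hk, rfl⟩ := hm
      have : k < 9 ∧ k ≠ 6 := by revert k; decide
      exact ⟨k, this.1, this.2, rfl⟩⟩)
    simp only [allPts, List.length_append, List.length_map, eightOf, List.length_cons, List.length_nil,
      height.2] at h2
    have := Set.eq_of_subset_of_ncard_le (show X ⊆ W from Set.inter_subset_left) (by omega) (Set.toFinite _)
    intro x hx
    exact (this.symm ▸ hx : x ∈ X).2

/-- Three completions of each quintuple among the common neighbours, and six common neighbours. -/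
theorem quint_leaf {l : List Mem × List Mem} (hl : l ∈ qLeaves) :
    (∀ m ∈ l.1, okMem m = true) ∧ (∀ m ∈ l.2, okMem m = true) ∧ l.1.length = 7 ∧
      ∃ m₁ m₂ m₃, l.2 = [m₁, m₂, m₃] ∧ m₁.1 ≠ m₂.1 ∧ m₁.1 ≠ m₃.1 ∧ m₂.1 ≠ m₃.1 ∧
        ∀ m ∈ l.2, patB l.1 [true, true, false, false, true, true, true] m.1 = true ∧ m.1 ∉ l.1.map Prod.fst := by
  have h := qLeaf_ok
  simp only [qLeafOk, List.all_eq_true, Bool.and_eq_true, Nat.beq_eq, Bool.not_eq_true'] at h
  obtain ⟨⟨⟨⟨⟨h1, h2⟩, h3⟩, h4⟩, h5⟩, h6⟩ := h l hl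
  refine ⟨h2, h4, h1, ?_⟩
  obtain ⟨m₁, m₂, m₃, hm⟩ : ∃ m₁ m₂ m₃, l.2 = [m₁, m₂, m₃] := by
    obtain ⟨_, _ | ⟨x, _ | ⟨y, _ | ⟨z, _ | ⟨w, t⟩⟩⟩⟩⟩ := l <;>
      simp only [List.length_cons, List.length_nil] at h3 <;> try omega
    exact ⟨x, y, z, rfl⟩
  have hnd := noDup_spec h5
  simp only [hm, List.map_cons, List.map_nil, List.nodup_cons, List.mem_cons, List.not_mem_nil, or_false,
    not_or] at hnd
  refine ⟨m₁, m₂, m₃, hm, hnd.1.1, hnd.1.2, hnd.2.1, fun m hmm => ⟨(h6 m hmm).1, fun hc => ?_⟩⟩
  have := (h6 m hmm).2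
  rw [List.contains_iff_mem.2 hc] at this
  exact Bool.noConfusion this

end CfsgLib.M23Core
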