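import Cfsg.Agent.Lib.ThreeTransp.M23Core.LevelData
import Cfsg.Agent.Lib.ThreeTransp.M23Core.LeafData
import Cfsg.Agent.Lib.Fi22P.PermCheck
import Cfsg.Agent.Lib.PresCert.Chain

/-!
Computations on the members of the presented Fischer group: tests of the orbits on tuples and of the
closures of their completions.
-/

set_option autoImplicit false
set_option maxRecDepth 100000

namespace CfsgLib.M23Core

open CfsgLib.PresCert CfsgLib.Fi22P

/-- A point with a root word of its member. -/
abbrev Mem : Type := ℕ × List ℕ

/-- The word of a member with a given root word. -/
def memWord (r : List ℕ) : List ℕ := r.reverse ++ 0 :: r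

/-- The root word leads to the point. -/
def okMem (m : Mem) : Bool := Nat.beq (tab.walk 0 m.2) m.1 && m.2.all fun g => Nat.blt g 9

/-- The member fixes the point. -/
def fixes (m : Mem) (q : ℕ) : Bool := Nat.beq (tab.walk q (memWord m.2)) q

/-- A point has the wanted commutation with the members. -/
def patB : List Mem → List Bool → ℕ → Bool
  | m :: ms, b :: bs, q => (if b then fixes m q else !fixes m q) && patB ms bs q
  | _, _, _ => true

/-- The point of an entry. -/
def entPt (e : ℕ) : ℕ := e / 65536

/-- The parent of an entry. -/
def entPar (e : ℕ) : ℕ := e / 16 % 4096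

/-- The generator of an entry. -/
def entGen (e : ℕ) : ℕ := e % 16

/-- All points of a list of entries after the starting ones. -/
def allPts (start : List Mem) (ents : List ℕ) : List ℕ := start.map Prod.fst ++ ents.map entPt

/-- The set of a list of points. -/
def maskOf (l : List ℕ) : ℕ := l.foldl (fun M p => Nat.lor M (2 ^ p)) 0

/-- Each entry is a new point, the image of an earlier one under a generator. -/
def grow (gens : List Mem) : ℕ → List ℕ → Bool
  | _, [] => true
  | M, e :: es =>
    M.testBit (entPar e) && !M.testBit (entPt e) && Nat.blt (entGen e) gens.length &&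
      Nat.beq (tab.walk (entPar e) (memWord (gens.getD (entGen e) (0, [])).2)) (entPt e) &&
        grow gens (Nat.lor M (2 ^ entPt e)) es

/-- No point repeats. -/
def noDup : List ℕ → Bool
  | [] => true
  | x :: l => !l.contains x && noDup l

/-- Each entry is a new image of an earlier point, starting from distinct points. -/
def stepsOk (gens start : List Mem) (ents : List ℕ) : Bool :=
  noDup (start.map Prod.fst) && grow gens (maskOf (start.map Prod.fst)) ents

/-- The members of a node are given by root words and the generators fix those chosen before. -/
def nodeGens (n : Node) : Bool :=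
  n.pre.all okMem && n.gens.all okMem && n.roots.all okMem && Nat.beq n.pre.length n.pat.length &&
    n.gens.all (fun g => n.pre.all fun p => fixes g p.1) && stepsOk n.gens n.roots n.ents

/-- The node lists every point with its commutation. -/
def nodeFull (n : Node) : Bool :=
  (List.range 3510).all fun q =>
    !(patB n.pre n.pat q) || (maskOf (allPts n.roots n.ents)).testBit q || (n.pre.map Prod.fst).contains q

/-- The prefixes after a node. -/
def nexts (n : Node) : List (List ℕ) := n.roots.map fun r => n.pre.map Prod.fst ++ [r.1]

/-- The wanted commutation at a level. -/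
def patOf : ℕ → List Bool
  | 0 => [true]
  | 1 => [true, true]
  | 2 => [true, false, false]
  | 3 => [true, true, false, true]
  | 4 => [true, true, true, false, true]
  | _ => [true, true, true, true, true, false]

/-- The wanted commutation at a level among the common neighbours. -/
def qPatOf : ℕ → List Bool
  | 0 => [true, true]
  | 1 => [true, true, true]
  | 2 => [true, true, true, false]
  | 3 => [true, true, true, true, false]
  | _ => [true, true, true, true, true, false]

/-- An empty node. -/
def noNode : Node := { pre := [], pat := [], gens := [], roots := [], ents := [] }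

/-- A node of a level. -/
def nd (L : List (List Node)) (k i : ℕ) : Node := (L.getD k []).getD i noNode

/-- The prefixes at a level. -/
def pres : ℕ → List (List ℕ)
  | 6 => leaves.map fun l => l.seven.map Prod.fst
  | k => (levels.getD k []).map fun n => n.pre.map Prod.fst

/-- The prefixes at a level among the common neighbours. -/
def qPres : ℕ → List (List ℕ)
  | 5 => qLeaves.map fun l => l.1.map Prod.fst
  | k => (qLevels.getD k []).map fun n => n.pre.map Prod.fst

/-- The nodes lead into the next level with the wanted commutation. -/
def shapeOk : Bool :=
  (List.range 6).all (fun k => (levels.getD k []).all fun n =>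
    decide (n.pat = patOf k) && (nexts n).all fun p => (pres (k + 1)).contains p) &&
  (List.range 5).all fun k => (qLevels.getD k []).all fun n =>
    decide (n.pat = qPatOf k) && (nexts n).all fun p => (qPres (k + 1)).contains p

/-- The wanted commutation of a completing member, the member `h` left free. -/
def complB (s : List Mem) (q : ℕ) : Bool :=
  !fixes (s.getD 0 (0, [])) q && !fixes (s.getD 1 (0, [])) q && fixes (s.getD 2 (0, [])) q &&
    fixes (s.getD 3 (0, [])) q && fixes (s.getD 4 (0, [])) q && fixes (s.getD 6 (0, [])) q

/-- The nine members in the order of the diagram. -/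
def nineOf (s : List Mem) (b g : Mem) : List Mem :=
  [s.getD 0 (0, []), b, s.getD 1 (0, []), s.getD 3 (0, []), s.getD 2 (0, []), s.getD 4 (0, []), g,
    s.getD 5 (0, []), s.getD 6 (0, [])]

/-- The eight members. -/
def eightOf (s : List Mem) (b : Mem) : List Mem :=
  [s.getD 0 (0, []), b, s.getD 1 (0, []), s.getD 3 (0, []), s.getD 2 (0, []), s.getD 4 (0, []),
    s.getD 5 (0, []), s.getD 6 (0, [])]

/-- The joined pairs of the nine. -/
def nineEdge (u v : ℕ) : Bool :=
  (u, v) ∈ [(0, 1), (1, 0), (1, 2), (2, 1), (2, 3), (3, 2), (3, 4), (4, 3), (4, 5), (5, 4), (5, 6), (6, 5),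
    (3, 7), (7, 3), (7, 8), (8, 7)]

/-- The two further relators. -/
def relIdx : List (List ℕ) :=
  [(List.replicate 9 [0, 1, 2, 3, 4, 5, 7]).flatten, (List.replicate 10 [3, 2, 1, 3, 4, 5, 3, 7, 8]).flatten]

/-- The images of the generators under the mirror. -/
def mirror : List ℕ := [6, 5, 4, 3, 2, 1, 0, 7, 8]

/-- A leaf of a given number. -/
def leafNo (i : ℕ) : Leaf := leaves.getD i { seven := [], cands := [], done := none }

/-- The candidates are those completing the tuple. -/
def leafFull (l : Leaf) : Bool :=
  Nat.beq l.seven.length 7 && l.seven.all okMem && noDup (l.cands.map fun c => c.mem.1) &&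
    l.cands.all (fun c => okMem c.mem) &&
    (List.range 3510).all fun q => !(complB l.seven q) || (l.cands.map fun c => c.mem.1).contains q

/-- The closure of a candidate. -/
def candOk (l : Leaf) (j : ℕ) : Bool :=
  match l.cands[j]? with
  | none => true
  | some c => stepsOk (l.seven ++ [c.mem]) (l.seven ++ [c.mem]) c.ents

/-- The closure of a candidate is too large. -/
def bigB (c : Cand) : Bool := Nat.ble 344 c.ents.length

/-- The candidates serve their purpose. -/
def leafKind (l : Leaf) : Bool :=
  match l.done with
  | none => Nat.ble (l.cands.filter fun c => !bigB c).length 2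
  | some (b, _, _, _) => l.cands.all fun c => bigB c || (allPts (l.seven ++ [c.mem]) c.ents).contains b.1

/-- The diagram of the nine. -/
def doneDiag (l : Leaf) : Bool :=
  match l.done with
  | none => true
  | some (b, g, _, _) =>
    okMem b && okMem g &&
      (List.range 9).all fun u => (List.range 9).all fun v =>
        (fixes ((nineOf l.seven b g).getD u (0, [])) ((nineOf l.seven b g).getD v (0, [])).1 == !nineEdge u v) &&
          (Nat.beq u v ||
            !Nat.beq ((nineOf l.seven b g).getD u (0, [])).1 ((nineOf l.seven b g).getD v (0, [])).1)

/-- The words of the nine. -/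
def nineWords (l : Leaf) : List (List ℕ) :=
  match l.done with
  | none => []
  | some (b, g, _, _) => (nineOf l.seven b g).map fun m => memWord m.2

/-- The two further relators hold for the nine. -/
def doneRel (l : Leaf) : Bool :=
  match l.done with
  | none => true
  | some _ => relIdx.all fun w => sameBase (CfsgLib.PresCert.expand (nineWords l) w.reverse) []

/-- The mirrored nine satisfy a part of the relations of the presentation. -/
def doneMirror (l : Leaf) (lo hi : ℕ) : Bool :=
  match l.done with
  | none => true
  | some _ => ((relData.drop lo).take hi).all fun w =>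
      sameBase (CfsgLib.PresCert.expand (mirror.map fun i => (nineWords l).getD i []) w) []

/-- The closure of the eight has 351 members. -/
def doneEight (l : Leaf) : Bool :=
  match l.done with
  | none => true
  | some (b, _, ko, _) => stepsOk (eightOf l.seven b) (eightOf l.seven b) ko && Nat.beq ko.length 343

/-- The closure of the nine has more. -/
def doneNine (l : Leaf) : Bool :=
  match l.done with
  | none => true
  | some (b, g, _, no) =>
    stepsOk (eightOf l.seven b ++ [g]) (eightOf l.seven b ++ [g]) no && Nat.beq no.length 343

/-- The pattern of the six. -/
def frameEdge (u v : ℕ) : Bool :=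
  (u, v) ∈ [(0, 2), (2, 0), (2, 1), (1, 2), (1, 3), (3, 1), (2, 4), (4, 2), (4, 5), (5, 4)]

/-- The six are common neighbours with the diagram. -/
def frameOk : Bool :=
  Nat.beq frame.length 6 && frame.all okMem &&
    frame.all (fun m => fixes (0, []) m.1 && fixes (2, [1, 0]) m.1 && !Nat.beq m.1 0 && !Nat.beq m.1 2) &&
      (List.range 6).all fun u => (List.range 6).all fun v =>
        Nat.beq u v || ((fixes (frame.getD u (0, [])) (frame.getD v (0, [])).1 == !frameEdge u v) &&
          !Nat.beq (frame.getD u (0, [])).1 (frame.getD v (0, [])).1)

/-- Three completions for each orbit of quintuples. -/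
def qLeafOk : Bool :=
  qLeaves.all fun l =>
    Nat.beq l.1.length 7 && l.1.all okMem && Nat.beq l.2.length 3 && l.2.all okMem &&
      noDup (l.2.map Prod.fst) &&
      l.2.all fun m => patB l.1 [true, true, false, false, true, true, true] m.1 &&
        !(l.1.map Prod.fst).contains m.1

end CfsgLib.M23Core
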