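import Cfsg.Agent.Lib.ThreeTransp.M23Core.Complete
import Cfsg.Agent.Lib.ThreeTransp.M22Y332.Iso
import Cfsg.Agent.Lib.ThreeTransp.M22Common
import Cfsg.Agent.Lib.FischerPair.Basic

/-!
Groups of type `M(22)`: six common neighbours of a non-commuting pair with the diagram of `E₆`, three completions
of each quintuple, and the sets of 351 members found from seven members.
-/

set_option autoImplicit false
set_option maxRecDepth 100000

namespace CfsgLib.M23Core

open CfsgLib.PresCert CfsgLib.Fi22P Cfsg.Spor CfsgLib.ThreeTransp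
open CfsgLib.FischerPair (common)
open CfsgLib.Fi22P.O8 (psi IsMem)

attribute [local irreducible] tab levels qLevels leaves qLeaves pres qPres relData frame

variable {G : Type*} [Group G] [Finite G] {D : Set G} (S : M22.Setup D)

theorem Nine.conj {D W : Set G} {nine : ℕ → G} (h : Nine D W nine) (g : G)
    (hD : ∀ x ∈ D, g * x * g⁻¹ ∈ D) :
    Nine D ((fun x => g * x * g⁻¹) '' W) fun k => g * nine k * g⁻¹ := by
  refine ⟨fun k hk => hD _ (h.mem k hk), fun k hk hk6 => ⟨_, h.inW k hk hk6, rfl⟩, ?_, fun u v hu hv => ?_,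
    fun u v hu hv hne he => h.ne u v hu hv hne (by simpa using he), fun w hw => ?_, ?_, ?_⟩
  · rintro ⟨x, hx, hxe⟩
    exact h.outside ((show x = nine 6 by simpa using hxe) ▸ hx)
  · rw [Commute.conj_iff]; exact h.comm u v hu hv
  · have := map_list_prod (MulAut.conj g).toMonoidHom (w.map nine)
    rw [h.rel w hw, map_one, List.map_map] at this
    exact this.symm
  · obtain ⟨φ, hφ⟩ := h.mirrored
    exact ⟨φ.trans (MulAut.conj g), fun k hk => by simp [hφ k hk]⟩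
  · rintro _ ⟨x, hx, rfl⟩
    have := Subgroup.mem_map_of_mem (MulAut.conj g).toMonoidHom (h.gen hx)
    rw [MonoidHom.map_closure] at this
    refine Subgroup.closure_mono ?_ this
    rintro _ ⟨_, ⟨k, hk, hk6, rfl⟩, rfl⟩
    exact ⟨k, hk, hk6, rfl⟩

include S

theorem conj_pair {a c a' c' : G} (ha : a ∈ D) (hc : c ∈ D) (hnc : ¬ Commute a c) (ha' : a' ∈ D) (hc' : c' ∈ D)
    (hnc' : ¬ Commute a' c') : ∃ g : G, g * a * g⁻¹ = a' ∧ g * c * g⁻¹ = c' := by
  obtain ⟨F, _, _, hF, hM⟩ := S.exists_models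
  obtain ⟨g, hg⟩ := S.cls ha ha'
  have hn : ¬ Commute a' (g * c * g⁻¹) := fun h => hnc ((Commute.conj_iff g).1 (hg.symm ▸ h))
  obtain ⟨h, hh, he⟩ := M22.trans_nonlink S hF hM ha' (S.tt.conj g c hc) hc' hn hnc'
  refine ⟨h * g, ?_, by rw [← he]; group⟩
  rw [show h * g * a * (h * g)⁻¹ = h * (g * a * g⁻¹) * h⁻¹ by group, hg,
    (M22.commute_link_closure hh).symm.eq, mul_inv_cancel_right]

variable (e : Cfsg.Spor.Fi22 ≃* G) (he : e '' transp = D)
include he

omit [Finite G] S in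
theorem el_D {m : Mem} (h : okMem m = true) : el e m ∈ D := he ▸ el_mem e h

theorem base_pair : okMem ((0, []) : Mem) = true ∧ okMem ((2, [1, 0]) : Mem) = true ∧
    ¬ Commute (el e (0, [])) (el e (2, [1, 0])) := by
  have h0 : okMem ((0, []) : Mem) = true := by with_unfolding_all rfl
  refine ⟨h0, pair_ok.1, fun h => ?_⟩
  have := (commute_el e h0 pair_ok.1).2 h
  rw [pair_ok.2] at this
  exact Bool.noConfusion this

/-- Six common neighbours of a non-commuting pair with the diagram of `E₆`. -/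
theorem exists_six {u v : G} (hu : u ∈ D) (hv : v ∈ D) (huv : ¬ Commute u v) :
    ∃ z : ℕ → G, (∀ i, i < 6 → z i ∈ common D u v) ∧
      ∀ i j, i < 6 → j < 6 → i ≠ j → z i ≠ z j ∧ (Commute (z i) (z j) ↔ frameEdge i j = false) := by
  obtain ⟨h0, h2, hab⟩ := base_pair S e he
  obtain ⟨g, gu, gv⟩ := conj_pair S (el_D e he h0) (el_D e he h2) hab hu hv huv
  have h := frame_ok
  simp only [frameOk, Bool.and_eq_true, List.all_eq_true, List.mem_range, Nat.beq_eq] at h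
  obtain ⟨⟨⟨hlen, hok⟩, hfix⟩, hpat⟩ := h
  have hget : ∀ i, i < 6 → frame.getD i (0, []) ∈ frame := fun i hi => by
    rw [List.getD_eq_getElem _ _ (hlen.symm ▸ hi)]
    exact List.getElem_mem _
  refine ⟨fun i => g * el e (frame.getD i (0, [])) * g⁻¹, fun i hi => ?_, fun i j hi hj hne => ?_⟩
  · obtain ⟨⟨⟨f0, f2⟩, n0⟩, n2⟩ := hfix _ (hget i hi)
    have hm := hok _ (hget i hi)
    refine ⟨⟨S.tt.conj g _ (el_D e he hm), fun hh => ?_, ?_⟩, S.tt.conj g _ (el_D e he hm), fun hh => ?_, ?_⟩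
    · have := el_inj e hm h0 (by simpa [← gu] using hh)
      rw [this] at n0
      exact absurd n0 (by decide)
    · rw [← gu]; exact (Commute.conj_iff g).2 ((commute_el e h0 hm).1 f0)
    · have := el_inj e hm h2 (by simpa [← gv] using hh)
      rw [this] at n2
      exact absurd n2 (by decide)
    · rw [← gv]; exact (Commute.conj_iff g).2 ((commute_el e h2 hm).1 f2)
  · obtain h1 | ⟨h1, h2'⟩ : i = j ∨ (fixes (frame.getD i (0, [])) (frame.getD j (0, [])).1 = !frameEdge i j) ∧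
        (frame.getD i (0, [])).1 ≠ (frame.getD j (0, [])).1 := by
      have := hpat i hi j hj
      simp only [Bool.or_eq_true, Nat.beq_eq, Bool.and_eq_true, Bool.not_eq_true'] at this
      rcases this with h | ⟨h, h'⟩
      · exact Or.inl h
      · refine Or.inr ⟨eq_of_beq h, fun e' => ?_⟩
        rw [show Nat.beq _ _ = true from Nat.beq_eq.mpr e'] at h'
        exact Bool.noConfusion h'
    · exact absurd h1 hne
    refine ⟨fun hh => h2' (el_inj e (hok _ (hget i hi)) (hok _ (hget j hj)) (by simpa using hh)), ?_⟩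
    rw [Commute.conj_iff, ← commute_el e (hok _ (hget i hi)) (hok _ (hget j hj)), h1, Bool.not_eq_true']

/-- Three completions of a quintuple of common neighbours. -/
theorem quint_three {u v a c d k f : G} (hu : u ∈ D) (hv : v ∈ D) (huv : ¬ Commute u v)
    (ha : a ∈ common D u v) (hc : c ∈ common D u v) (hd : d ∈ common D u v) (hk : k ∈ common D u v)
    (hf : f ∈ common D u v) (lac : c ∈ link D a) (lad : d ∈ link D a) (lak : k ∈ link D a) (laf : f ∈ link D a)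
    (lck : k ∈ link D c) (lcf : f ∈ link D c) (ldf : f ∈ link D d) (ncd : ¬ Commute c d) (ndk : ¬ Commute d k)
    (nkf : ¬ Commute k f) :
    ∃ b₁ b₂ b₃ : G, b₁ ≠ b₂ ∧ b₁ ≠ b₃ ∧ b₂ ≠ b₃ ∧ ∀ b ∈ [b₁, b₂, b₃], b ∈ common D u v ∧
      ¬ Commute a b ∧ ¬ Commute c b ∧ Commute d b ∧ Commute k b ∧ Commute f b := by
  obtain ⟨h0, h2, hab⟩ := base_pair S e he
  obtain ⟨g, gu, gv⟩ := conj_pair S hu hv huv (el_D e he h0) (el_D e he h2) hab
  have mem : ∀ {x : G}, x ∈ D → x ∈ e '' transp := fun {x} hx => he ▸ hx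
  have base : ∃ ps ∈ qPres 0, Sits e [u, v] ps := by
    refine ⟨[0, 2], by rw [level_lens.2.2.2.1]; exact List.mem_singleton.2 rfl, g, ?_⟩
    refine List.Forall₂.cons ?_ (List.Forall₂.cons ?_ List.Forall₂.nil)
    · rw [gu]; exact el_isMem e h0
    · rw [gv]; exact el_isMem e h2
  have s1 := qLevel_step e (k := 0) (by norm_num) base (mem ha.1.1)
    (by simp [ha.1.2.1, ha.2.2.1])
    (by simp [Pattern, qPatOf, ha.1.2.2, ha.2.2.2])
  have s2 := qLevel_step e (k := 1) (by norm_num) s1 (mem hc.1.1)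
    (by simp [hc.1.2.1, hc.2.2.1, lac.2.1])
    (by simp [Pattern, qPatOf, hc.1.2.2, hc.2.2.2, lac.2.2])
  have s3 := qLevel_step e (k := 2) (by norm_num) s2 (mem hd.1.1)
    (by simp [hd.1.2.1, hd.2.2.1, lad.2.1, show d ≠ c from fun h => ncd (h ▸ Commute.refl _)])
    (by simp [Pattern, qPatOf, hd.1.2.2, hd.2.2.2, lad.2.2, ncd])
  have s4 := qLevel_step e (k := 3) (by norm_num) s3 (mem hk.1.1)
    (by simp [hk.1.2.1, hk.2.2.1, lak.2.1, lck.2.1, show k ≠ d from fun h => ndk (h ▸ Commute.refl _)])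
    (by simp [Pattern, qPatOf, hk.1.2.2, hk.2.2.2, lak.2.2, lck.2.2, ndk])
  obtain ⟨ps, hps, hs⟩ := qLevel_step e (k := 4) (by norm_num) s4 (mem hf.1.1)
    (by simp [hf.1.2.1, hf.2.2.1, laf.2.1, lcf.2.1, ldf.2.1, show f ≠ k from fun h => nkf (h ▸ Commute.refl _)])
    (by simp [Pattern, qPatOf, hf.1.2.2, hf.2.2.2, laf.2.2, lcf.2.2, ldf.2.2, nkf])
  rw [pres_eq.2.2.2] at hps
  obtain ⟨l, hl, rfl⟩ := List.mem_map.1 hps
  obtain ⟨hok, hok', hlen, m₁, m₂, m₃, hm, n12, n13, n23, hpat⟩ := quint_leaf hl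
  obtain ⟨t, ht⟩ := hs.exists_conj e hok
  set xs := ([u, v] ++ [a] ++ [c] ++ [d] ++ [k] ++ [f]) with hxs
  have hels : List.Forall₂ (fun y m => y = el e m) (xs.map fun x => t * x * t⁻¹) l.1 := by
    rw [ht, List.forall₂_map_left_iff]
    exact List.forall₂_same.2 fun m _ => rfl
  have key : ∀ m ∈ [m₁, m₂, m₃], t⁻¹ * el e m * t ∈ common D u v ∧ ¬ Commute a (t⁻¹ * el e m * t) ∧
      ¬ Commute c (t⁻¹ * el e m * t) ∧ Commute d (t⁻¹ * el e m * t) ∧ Commute k (t⁻¹ * el e m * t) ∧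
        Commute f (t⁻¹ * el e m * t) := by
    intro m hmm
    rw [← hm] at hmm
    obtain ⟨hp, hnot⟩ := hpat m hmm
    have hmo := hok' m hmm
    have hp' := (patB_iff e hok hels (el_isMem e hmo) (by rw [hlen]; rfl)).1 hp
    rw [hxs, Pattern, List.forall₂_map_left_iff] at hp'
    simp only [List.cons_append, List.nil_append, List.forall₂_cons, Bool.false_eq_true, false_iff, true_iff,
      List.forall₂_nil_left_iff, and_true] at hp'
    have cj : ∀ x : G, Commute (t * x * t⁻¹) (el e m) ↔ Commute x (t⁻¹ * el e m * t) := fun x => by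
      conv_rhs => rw [← Commute.conj_iff t]
      simp [mul_assoc]
    simp only [cj] at hp'
    obtain ⟨p1, p2, p3, p4, p5, p6, p7⟩ := hp'
    have hD : t⁻¹ * el e m * t ∈ D := by
      have := S.tt.conj t⁻¹ _ (el_D e he hmo)
      rwa [inv_inv] at this
    have hne : ∀ x ∈ xs, t⁻¹ * el e m * t ≠ x := by
      intro x hx hxe
      refine hnot ?_
      have h5 : el e m ∈ l.1.map (el e) := ht ▸ List.mem_map.2 ⟨x, hx, by rw [← hxe]; group⟩
      obtain ⟨m', hm', hme⟩ := List.mem_map.1 h5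
      exact List.mem_map.2 ⟨m', hm', el_inj e (hok m' hm') hmo hme⟩
    exact ⟨⟨⟨hD, hne u (by simp [hxs]), p1⟩, hD, hne v (by simp [hxs]), p2⟩, p3, p4, p5, p6, p7⟩
  have inj : ∀ {m m' : Mem}, m ∈ l.2 → m' ∈ l.2 → m.1 ≠ m'.1 → t⁻¹ * el e m * t ≠ t⁻¹ * el e m' * t :=
    fun h h' hne hh => hne (el_inj e (hok' _ h) (hok' _ h') (by simpa using hh))
  refine ⟨_, _, _, inj (hm ▸ by simp) (hm ▸ by simp) n12, inj (hm ▸ by simp) (hm ▸ by simp) n13,
    inj (hm ▸ by simp) (hm ▸ by simp) n23, fun b hb => ?_⟩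
  simp only [List.mem_cons, List.not_mem_nil, or_false] at hb
  rcases hb with rfl | rfl | rfl
  exacts [key m₁ (by simp), key m₂ (by simp), key m₃ (by simp)]

/-- A set of at most 351 members closed under conjugation containing seven members with the pattern and three
completions is generated by eight members of a diagram `Y₃₃₂`, the ninth outside. -/
theorem exists_nine {W : Set G} (hWD : W ⊆ D) (hW : ∀ x ∈ W, ∀ y ∈ W, x * y * x⁻¹ ∈ W)
    (hWn : W.ncard ≤ 351) {a c k d f h i : G} (ha : a ∈ W) (hc : c ∈ W) (hk : k ∈ W) (hd : d ∈ W) (hf : f ∈ W)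
    (hh : h ∈ W) (hi : i ∈ W) (lac : c ∈ link D a) (lak : k ∈ link D a) (lad : d ∈ link D a)
    (laf : f ∈ link D a) (lah : h ∈ link D a) (lai : i ∈ link D a) (lck : k ∈ link D c) (lcf : f ∈ link D c)
    (lch : h ∈ link D c) (lci : i ∈ link D c) (lkh : h ∈ link D k) (lki : i ∈ link D k) (ldf : f ∈ link D d)
    (ldi : i ∈ link D d) (lfh : h ∈ link D f) (lfi : i ∈ link D f) (ncd : ¬ Commute c d) (ndk : ¬ Commute d k)
    (nkf : ¬ Commute k f) (ndh : ¬ Commute d h) (nhi : ¬ Commute h i) {b₁ b₂ b₃ : G} (n12 : b₁ ≠ b₂)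
    (n13 : b₁ ≠ b₃) (n23 : b₂ ≠ b₃) (hb : ∀ b ∈ [b₁, b₂, b₃], b ∈ W ∧ ¬ Commute a b ∧ ¬ Commute c b ∧
      Commute d b ∧ Commute k b ∧ Commute f b ∧ Commute i b) :
    ∃ nine, Nine D W nine := by
  have mem : ∀ {x : G}, x ∈ W → x ∈ e '' transp := fun {x} hx => he ▸ hWD hx
  have base : ∃ ps ∈ pres 0, Sits e [a] ps := by
    have h0 : okMem ((0, []) : Mem) = true := (base_pair S e he).1
    obtain ⟨g, hg⟩ := S.cls (hWD ha) (el_D e he h0)
    refine ⟨[0], by rw [level_lens.2.2.1]; exact List.mem_singleton.2 rfl, g, List.Forall₂.cons ?_ List.Forall₂.nil⟩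
    rw [hg]; exact el_isMem e h0
  have ne : ∀ {x y : G}, ¬ Commute x y → y ≠ x := fun h e' => h (e' ▸ Commute.refl _)
  have s1 := level_step e (k := 0) (by norm_num) base (mem hc) (by simp [lac.2.1])
    (by simp [Pattern, patOf, lac.2.2])
  have s2 := level_step e (k := 1) (by norm_num) s1 (mem hk) (by simp [lak.2.1, lck.2.1])
    (by simp [Pattern, patOf, lak.2.2, lck.2.2])
  have s3 := level_step e (k := 2) (by norm_num) s2 (mem hd) (by simp [lad.2.1, ne ncd, ne fun h => ndk h.symm])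
    (by simp [Pattern, patOf, lad.2.2, ncd, show ¬ Commute k d from fun h => ndk h.symm])
  have s4 := level_step e (k := 3) (by norm_num) s3 (mem hf) (by simp [laf.2.1, lcf.2.1, ne nkf, ldf.2.1])
    (by simp [Pattern, patOf, laf.2.2, lcf.2.2, nkf, ldf.2.2])
  have s5 := level_step e (k := 4) (by norm_num) s4 (mem hh) (by simp [lah.2.1, lch.2.1, lkh.2.1, ne ndh, lfh.2.1])
    (by simp [Pattern, patOf, lah.2.2, lch.2.2, lkh.2.2, ndh, lfh.2.2])
  obtain ⟨ps, hps, hs⟩ := level_step e (k := 5) (by norm_num) s5 (mem hi)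
    (by simp [lai.2.1, lci.2.1, lki.2.1, ldi.2.1, lfi.2.1, ne nhi])
    (by simp [Pattern, patOf, lai.2.2, lci.2.2, lki.2.2, ldi.2.2, lfi.2.2, nhi])
  rw [pres_eq.2.2.1] at hps
  obtain ⟨l, hl, rfl⟩ := List.mem_map.1 hps
  obtain ⟨hfull, -⟩ := leaf_checks hl
  simp only [leafFull, Bool.and_eq_true, List.all_eq_true, List.mem_range, Nat.beq_eq, Bool.or_eq_true,
    Bool.not_eq_true', List.contains_iff_mem] at hfull
  obtain ⟨⟨⟨⟨-, hok⟩, -⟩, hcok⟩, hcomp⟩ := hfull
  obtain ⟨t, ht⟩ := hs.exists_conj e hok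
  simp only [List.cons_append, List.nil_append, List.map_cons, List.map_nil] at ht
  obtain ⟨s0, s1, s2, s3, s4, s5, s6, hseven⟩ : ∃ s0 s1 s2 s3 s4 s5 s6, l.seven = [s0, s1, s2, s3, s4, s5, s6] := by
    have hlen := congrArg List.length ht
    simp only [List.length_cons, List.length_nil, List.length_map] at hlen
    obtain ⟨_ | ⟨x0, _ | ⟨x1, _ | ⟨x2, _ | ⟨x3, _ | ⟨x4, _ | ⟨x5, _ | ⟨x6, _ | ⟨x7, r⟩⟩⟩⟩⟩⟩⟩⟩, cs, dn⟩ := l <;>
      simp only [List.length_cons, List.length_nil] at hlen <;> try omega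
    exact ⟨x0, x1, x2, x3, x4, x5, x6, rfl⟩
  rw [hseven, List.map_cons, List.map_cons, List.map_cons, List.map_cons, List.map_cons, List.map_cons,
    List.map_cons, List.map_nil] at ht
  simp only [List.cons.injEq, and_true] at ht
  obtain ⟨e0, e1, e2, e3, e4, e5, e6⟩ := ht
  set W' := (fun x => t * x * t⁻¹) '' W with hW'
  have hW'c : ∀ x ∈ W', ∀ y ∈ W', x * y * x⁻¹ ∈ W' := by
    rintro _ ⟨x, hx, rfl⟩ _ ⟨y, hy, rfl⟩
    exact ⟨x * y * x⁻¹, hW x hx y hy, by group⟩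
  have hW'n : W'.ncard ≤ 351 := (Set.ncard_image_le (Set.toFinite _)).trans hWn
  have hs' : ∀ j < 7, okMem ([s0, s1, s2, s3, s4, s5, s6].getD j (0, [])) = true := fun j hj => hok _ (by
    rw [hseven, List.getD_eq_getElem _ _ (show j < [s0, s1, s2, s3, s4, s5, s6].length by simpa using hj)]
    exact List.getElem_mem _)
  have hcand : ∀ b ∈ [b₁, b₂, b₃], ∃ m ∈ l.cands.map Cand.mem, t * b * t⁻¹ = el e m := by
    intro b hbm
    obtain ⟨hbW, na, ncb, cd, ck, cf, ci⟩ := hb b hbm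
    obtain ⟨q, hq⟩ := exists_pt e (show t * b * t⁻¹ ∈ e '' transp from he ▸ S.tt.conj t b (hWD hbW))
    have hcompl : complB l.seven q.val = true := by
      have f : ∀ {x : G} {m : Mem}, okMem m = true → t * x * t⁻¹ = el e m →
          (fixes m q.val = true ↔ Commute x b) := fun hm h => by
        rw [fixes_iff e hm hq, ← h, Commute.conj_iff]
      simp only [complB, hseven, List.getD_cons_zero, List.getD_cons_succ, Bool.and_eq_true, Bool.not_eq_true',
        Bool.eq_false_iff]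
      refine ⟨⟨⟨⟨⟨?_, ?_⟩, ?_⟩, ?_⟩, ?_⟩, ?_⟩
      · exact fun hh => na ((f (hs' 0 (by norm_num)) e0).1 hh)
      · exact fun hh => ncb ((f (hs' 1 (by norm_num)) e1).1 hh)
      · exact (f (hs' 2 (by norm_num)) e2).2 ck
      · exact (f (hs' 3 (by norm_num)) e3).2 cd
      · exact (f (hs' 4 (by norm_num)) e4).2 cf
      · exact (f (hs' 6 (by norm_num)) e6).2 ci
    have h5 := hcomp q.val (lt_of_lt_of_eq q.isLt tab_n)
    rw [hcompl] at h5
    simp only [Bool.true_eq_false, false_or] at h5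
    obtain ⟨cc, hcc, hcq⟩ := List.mem_map.1 h5
    exact ⟨cc.mem, List.mem_map.2 ⟨cc, hcc, rfl⟩, eq_el e (hcok _ hcc) (hcq ▸ hq)⟩
  obtain ⟨m₁, hm₁, f₁⟩ := hcand b₁ (by simp)
  obtain ⟨m₂, hm₂, f₂⟩ := hcand b₂ (by simp)
  obtain ⟨m₃, hm₃, f₃⟩ := hcand b₃ (by simp)
  have hmok : ∀ m ∈ l.cands.map Cand.mem, okMem m = true := fun m hm => by
    obtain ⟨cc, hcc, rfl⟩ := List.mem_map.1 hm; exact hcok _ hcc
  have dif : ∀ {x y : G} {m m' : Mem}, m ∈ l.cands.map Cand.mem → m' ∈ l.cands.map Cand.mem →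
      t * x * t⁻¹ = el e m → t * y * t⁻¹ = el e m' → x ≠ y → m.1 ≠ m'.1 := by
    intro x y m m' hm hm' hx hy hne hp
    have := (el_isMem e (hmok m hm)).unique e (hp ▸ el_isMem e (hmok m' hm'))
    rw [← hx, ← hy] at this
    exact hne (by simpa using this)
  obtain ⟨nine, hn⟩ := leaf_nine e (W := W') hl hW'c hW'n (fun m hm => by
      rw [hseven] at hm
      simp only [List.mem_cons, List.not_mem_nil, or_false] at hm
      rcases hm with rfl | rfl | rfl | rfl | rfl | rfl | rfl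
      exacts [⟨a, ha, e0⟩, ⟨c, hc, e1⟩, ⟨k, hk, e2⟩, ⟨d, hd, e3⟩, ⟨f, hf, e4⟩, ⟨h, hh, e5⟩, ⟨i, hi, e6⟩])
    hm₁ hm₂ hm₃ (dif hm₁ hm₂ f₁ f₂ n12) (dif hm₁ hm₃ f₁ f₃ n13) (dif hm₂ hm₃ f₂ f₃ n23)
    ⟨b₁, (hb b₁ (by simp)).1, f₁⟩ ⟨b₂, (hb b₂ (by simp)).1, f₂⟩ ⟨b₃, (hb b₃ (by simp)).1, f₃⟩
  rw [he] at hn
  refine ⟨fun j => t⁻¹ * nine j * t, ?_⟩
  have h7 := hn.conj t⁻¹ fun x hx => S.tt.conj t⁻¹ x hx
  simp only [inv_inv] at h7
  rwa [hW', Set.image_image, show (fun x => t⁻¹ * (t * x * t⁻¹) * t) = id from funext fun x => by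
    simp [mul_assoc], Set.image_id] at h7

end CfsgLib.M23Core
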