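import Cfsg.Agent.Lib.ThreeTransp.M23Core.Points
import Cfsg.Agent.Lib.ThreeTransp.M23Core.CheckShape
import Cfsg.Agent.Lib.ThreeTransp.M23Core.CheckNodeA
import Cfsg.Agent.Lib.ThreeTransp.M23Core.CheckNodeB
import Cfsg.Agent.Lib.ThreeTransp.M23Core.CheckNodeC
import Cfsg.Agent.Lib.ThreeTransp.M23Core.CheckNodeQ

/-!
In a group isomorphic to the presented Fischer group every tuple of members with one of the two patterns is
conjugate to one of the listed tuples.
-/

set_option autoImplicit false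
set_option maxRecDepth 100000

namespace CfsgLib.M23Core

open CfsgLib.PresCert CfsgLib.Fi22P Cfsg.Spor
open CfsgLib.Fi22P.O8 (psi IsMem)

attribute [local irreducible] tab levels qLevels leaves qLeaves pres qPres

variable {G : Type*} [Group G] (e : Cfsg.Spor.Fi22 ≃* G)

/-- Some conjugate of the members sits at the points. -/
def Sits (xs : List G) (ps : List ℕ) : Prop :=
  ∃ g : G, List.Forall₂ (fun x p => IsMem e (g * x * g⁻¹) p) xs ps

/-- The commutation of `x` with the members is as listed. -/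
def Pattern (xs : List G) (bs : List Bool) (x : G) : Prop :=
  List.Forall₂ (fun y (b : Bool) => b = true ↔ Commute y x) xs bs

theorem patB_iff : ∀ {ms : List Mem} {bs : List Bool} {xs : List G} {x : G} {q : ℕ},
    (∀ m ∈ ms, okMem m = true) → List.Forall₂ (fun y m => y = el e m) xs ms → IsMem e x q →
    ms.length = bs.length → (patB ms bs q = true ↔ Pattern xs bs x) := by
  intro ms
  induction ms with
  | nil =>
    intro bs xs x q _ hxs _ hl
    cases hxs
    obtain rfl : bs = [] := List.length_eq_zero_iff.1 (by simpa using hl.symm)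
    simp [patB, Pattern]
  | cons m ms ih =>
    intro bs xs x q hok hxs hx hl
    rw [List.forall₂_cons_right_iff] at hxs
    obtain ⟨y, ys, rfl, hys, rfl⟩ := hxs
    obtain _ | ⟨b, bs⟩ := bs
    · simp at hl
    have h1 := fixes_iff e (hok m List.mem_cons_self) hx
    have hih := ih (bs := bs) (fun n hn => hok n (List.mem_cons_of_mem _ hn)) hys hx (by simpa using hl)
    simp only [patB, Bool.and_eq_true, Pattern, List.forall₂_cons]
    rw [hih]
    refine and_congr ?_ Iff.rfl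
    cases b
    · simp only [Bool.false_eq_true, if_false, Bool.not_eq_true', false_iff, ← h1]
      exact Bool.eq_false_iff
    · simp only [if_true, true_iff]
      exact h1

theorem Sits.mem {xs : List G} {ps : List ℕ} (h : Sits e xs ps) :
    ∀ x ∈ xs, ∀ g : G, g * x * g⁻¹ ∈ e '' transp := by
  obtain ⟨g, hg⟩ := h
  intro x hx k
  induction hg with
  | nil => exact absurd hx List.not_mem_nil
  | cons hh _ ih =>
    rcases List.mem_cons.1 hx with rfl | hx
    · obtain ⟨t, ht, he⟩ := hh.mem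
      refine ⟨e.symm (k * g⁻¹) * t * (e.symm (k * g⁻¹))⁻¹, ht.trans (isConj_iff.2 ⟨_, rfl⟩), ?_⟩
      simp only [map_mul, map_inv, MulEquiv.apply_symm_apply, he]
      group
    · exact ih hx

/-- One step along a node. -/
theorem node_step {n : Node} (hg : nodeGens n = true) (hf : nodeFull n = true) {xs : List G} {x : G}
    (hxs : Sits e xs (n.pre.map Prod.fst)) (hx : x ∈ e '' transp) (hnot : x ∉ xs)
    (hp : Pattern xs n.pat x) : ∃ p ∈ nexts n, Sits e (xs ++ [x]) p := by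
  simp only [nodeGens, Bool.and_eq_true, List.all_eq_true, Nat.beq_eq] at hg
  obtain ⟨⟨⟨⟨⟨hpre, hgens⟩, hroots⟩, hlen⟩, hcomm⟩, hsteps⟩ := hg
  obtain ⟨g, hfa⟩ := hxs
  rw [List.forall₂_map_right_iff] at hfa
  set xs' := xs.map fun y => g * y * g⁻¹ with hxs'
  have hels : List.Forall₂ (fun y m => y = el e m) xs' n.pre := by
    rw [hxs', List.forall₂_map_left_iff]
    exact List.Forall₂.imp (R := fun y m => IsMem e (g * y * g⁻¹) m.1 ∧ m ∈ n.pre)
      (fun y m h => eq_el e (hpre m h.2) h.1)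
      (List.forall₂_iff_get.2 ⟨hfa.length_eq, fun i h1 h2 =>
        ⟨(List.forall₂_iff_get.1 hfa).2 i h1 h2, List.get_mem _ _⟩⟩)
  have hx' : g * x * g⁻¹ ∈ e '' transp := by
    obtain ⟨t, ht, rfl⟩ := hx
    refine ⟨e.symm g * t * (e.symm g)⁻¹, ht.trans (isConj_iff.2 ⟨_, rfl⟩), ?_⟩
    simp only [map_mul, map_inv, MulEquiv.apply_symm_apply]
  obtain ⟨q, hq⟩ := exists_pt e hx'
  have hp' : Pattern xs' n.pat (g * x * g⁻¹) := by
    rw [hxs', Pattern, List.forall₂_map_left_iff]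
    exact List.Forall₂.imp (fun y b h => h.trans (Commute.conj_iff g).symm) hp
  have hpat := (patB_iff e hpre hels hq hlen).2 hp'
  simp only [nodeFull, List.all_eq_true, List.mem_range, Bool.or_eq_true, Bool.not_eq_true'] at hf
  have h3 := hf q.val (lt_of_lt_of_eq q.isLt tab_n)
  rw [hpat, testBit_maskOf, List.contains_iff_mem] at h3
  simp only [Bool.true_eq_false, false_or] at h3
  rcases h3 with hall | hin
  swap
  · exfalso
    obtain ⟨m, hm, hmq⟩ := List.mem_map.1 hin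
    have : g * x * g⁻¹ = el e m := eq_el e (hpre m hm) (hmq ▸ hq)
    obtain ⟨i, hi, him⟩ := List.getElem_of_mem hm
    have hi' : i < xs'.length := hels.length_eq ▸ hi
    have h5 : xs'.get ⟨i, hi'⟩ = el e (n.pre.get ⟨i, hi⟩) := (List.forall₂_iff_get.1 hels).2 i hi' hi
    rw [List.get_eq_getElem, List.get_eq_getElem, him, ← this] at h5
    have h6 : g * x * g⁻¹ ∈ xs' := h5 ▸ List.getElem_mem hi'
    rw [hxs', List.mem_map] at h6
    obtain ⟨y, hy, hyx⟩ := h6
    exact hnot (show x ∈ xs from (mul_left_cancel (mul_right_cancel hyx) : y = x) ▸ hy)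
  have key : ∀ p ∈ allPts n.roots n.ents, ∃ k : G, (∀ m ∈ n.pre, Commute k (el e m)) ∧
      ∃ r ∈ n.roots, IsMem e (k * el e r * k⁻¹) p := by
    refine steps_ind hsteps (fun r hr => ⟨1, fun _ _ => Commute.one_left _, r, hr, ?_⟩) ?_
    · rw [one_mul, inv_one, mul_one]; exact el_isMem e (hroots r hr)
    · rintro p s hs ⟨k, hk, r, hr, hkp⟩
      have hpn := mem_lt e hkp
      refine ⟨el e s * k, fun m hm => ?_, r, hr, ?_⟩
      · exact ((commute_el e (hgens s hs) (hpre m hm)).1 (hcomm s hs m hm)).mul_left (hk m hm)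
      · have h1 := IsMem.conj e (g := el e s) (p := ⟨p, hpn⟩) hkp
        rw [el_psi e (hgens s hs)] at h1
        convert h1 using 1
        group
  obtain ⟨k, hk, r, hr, hkq⟩ := key _ hall
  refine ⟨n.pre.map Prod.fst ++ [r.1], List.mem_map.2 ⟨r, hr, rfl⟩, k⁻¹ * g, ?_⟩
  have e1 : k * el e r * k⁻¹ = g * x * g⁻¹ := hkq.unique e hq
  refine List.rel_append ?_ (List.Forall₂.cons ?_ List.Forall₂.nil)
  · rw [List.forall₂_map_right_iff]
    rw [hxs', List.forall₂_map_left_iff] at hels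
    refine List.forall₂_iff_get.2 ⟨hels.length_eq, fun i h1 h2 => ?_⟩
    have h5 : g * xs.get ⟨i, h1⟩ * g⁻¹ = el e (n.pre.get ⟨i, h2⟩) := (List.forall₂_iff_get.1 hels).2 i h1 h2
    have h6 := hk _ (List.get_mem n.pre ⟨i, h2⟩)
    rw [show k⁻¹ * g * xs.get ⟨i, h1⟩ * (k⁻¹ * g)⁻¹ = k⁻¹ * (g * xs.get ⟨i, h1⟩ * g⁻¹) * k by group, h5,
      h6.inv_left.eq, inv_mul_cancel_right]
    exact el_isMem e (hpre _ (List.get_mem n.pre ⟨i, h2⟩))
  · rw [show k⁻¹ * g * x * (k⁻¹ * g)⁻¹ = k⁻¹ * (g * x * g⁻¹) * k by group, ← e1,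
      show k⁻¹ * (k * el e r * k⁻¹) * k = el e r by group]
    exact el_isMem e (hroots r hr)

theorem shape_spec : (∀ k < 6, ∀ n ∈ levels.getD k [], n.pat = patOf k ∧ ∀ p ∈ nexts n, p ∈ pres (k + 1)) ∧
    ∀ k < 5, ∀ n ∈ qLevels.getD k [], n.pat = qPatOf k ∧ ∀ p ∈ nexts n, p ∈ qPres (k + 1) := by
  have h := shape_ok
  simp only [shapeOk, Bool.and_eq_true, List.all_eq_true, List.mem_range, decide_eq_true_eq,
    List.contains_iff_mem] at h
  exact ⟨fun k hk n hn => h.1 k hk n hn, fun k hk n hn => h.2 k hk n hn⟩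

theorem level_ok {k : ℕ} (hk : k < 6) {n : Node} (hn : n ∈ levels.getD k []) :
    nodeGens n = true ∧ nodeFull n = true := by
  obtain ⟨i, hi, rfl⟩ := List.getElem_of_mem hn
  have hl := congrArg (fun l => l.getD k 0) level_lens.1
  rw [List.getD_eq_getElem _ _ (by simpa using hk), List.getElem_map, List.getElem_range] at hl
  have e1 : nd levels k i = (levels.getD k [])[i] := List.getD_eq_getElem _ _ hi
  rw [← e1]
  interval_cases k <;> simp only [List.getD_cons_zero, List.getD_cons_succ] at hl <;> rw [hl] at hi <;>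
    interval_cases i
  exacts [⟨gens0_0, full0_0⟩, ⟨gens1_0, full1_0⟩, ⟨gens2_0, full2_0⟩, ⟨gens3_0, full3_0⟩, ⟨gens3_1, full3_1⟩,
    ⟨gens3_2, full3_2⟩, ⟨gens4_0, full4_0⟩, ⟨gens4_1, full4_1⟩, ⟨gens4_2, full4_2⟩, ⟨gens5_0, full5_0⟩,
    ⟨gens5_1, full5_1⟩, ⟨gens5_2, full5_2⟩, ⟨gens5_3, full5_3⟩, ⟨gens5_4, full5_4⟩, ⟨gens5_5, full5_5⟩,
    ⟨gens5_6, full5_6⟩, ⟨gens5_7, full5_7⟩, ⟨gens5_8, full5_8⟩]

theorem qLevel_ok {k : ℕ} (hk : k < 5) {n : Node} (hn : n ∈ qLevels.getD k []) :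
    nodeGens n = true ∧ nodeFull n = true := by
  obtain ⟨i, hi, rfl⟩ := List.getElem_of_mem hn
  have hl := congrArg (fun l => l.getD k 0) level_lens.2.1
  rw [List.getD_eq_getElem _ _ (by simpa using hk), List.getElem_map, List.getElem_range] at hl
  have e1 : nd qLevels k i = (qLevels.getD k [])[i] := List.getD_eq_getElem _ _ hi
  rw [← e1]
  interval_cases k <;> simp only [List.getD_cons_zero, List.getD_cons_succ] at hl <;> rw [hl] at hi <;>
    interval_cases i
  exacts [⟨qGens0_0, qFull0_0⟩, ⟨qGens1_0, qFull1_0⟩, ⟨qGens2_0, qFull2_0⟩, ⟨qGens3_0, qFull3_0⟩,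
    ⟨qGens4_0, qFull4_0⟩, ⟨qGens4_1, qFull4_1⟩, ⟨qGens4_2, qFull4_2⟩]

unseal pres qPres in
theorem pres_eq : (∀ k, k < 6 → pres k = (levels.getD k []).map fun n => n.pre.map Prod.fst) ∧
    (∀ k, k < 5 → qPres k = (qLevels.getD k []).map fun n => n.pre.map Prod.fst) ∧
    (pres 6 = leaves.map fun l => l.seven.map Prod.fst) ∧ qPres 5 = qLeaves.map fun l => l.1.map Prod.fst := by
  refine ⟨fun k hk => ?_, fun k hk => ?_, rfl, rfl⟩
  · interval_cases k <;> rfl
  · interval_cases k <;> rfl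

/-- Adding a member keeps a tuple in the list. -/
theorem level_step {k : ℕ} (hk : k < 6) {xs : List G} {x : G} (h : ∃ ps ∈ pres k, Sits e xs ps)
    (hx : x ∈ e '' transp) (hnot : x ∉ xs) (hp : Pattern xs (patOf k) x) :
    ∃ ps ∈ pres (k + 1), Sits e (xs ++ [x]) ps := by
  obtain ⟨ps, hps, hs⟩ := h
  rw [pres_eq.1 k hk] at hps
  obtain ⟨n, hn, rfl⟩ := List.mem_map.1 hps
  obtain ⟨h1, h2⟩ := level_ok hk hn
  obtain ⟨hpat, hnext⟩ := shape_spec.1 k hk n hn
  obtain ⟨p, hpn, hsp⟩ := node_step e h1 h2 hs hx hnot (hpat ▸ hp)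
  exact ⟨p, hnext p hpn, hsp⟩

/-- Adding a member keeps a tuple of common neighbours in the list. -/
theorem qLevel_step {k : ℕ} (hk : k < 5) {xs : List G} {x : G} (h : ∃ ps ∈ qPres k, Sits e xs ps)
    (hx : x ∈ e '' transp) (hnot : x ∉ xs) (hp : Pattern xs (qPatOf k) x) :
    ∃ ps ∈ qPres (k + 1), Sits e (xs ++ [x]) ps := by
  obtain ⟨ps, hps, hs⟩ := h
  rw [pres_eq.2.1 k hk] at hps
  obtain ⟨n, hn, rfl⟩ := List.mem_map.1 hps
  obtain ⟨h1, h2⟩ := qLevel_ok hk hn
  obtain ⟨hpat, hnext⟩ := shape_spec.2 k hk n hn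
  obtain ⟨p, hpn, hsp⟩ := node_step e h1 h2 hs hx hnot (hpat ▸ hp)
  exact ⟨p, hnext p hpn, hsp⟩

/-- Members sitting at points are the members with those root words. -/
theorem Sits.exists_conj {xs : List G} {ms : List Mem} (hok : ∀ m ∈ ms, okMem m = true)
    (h : Sits e xs (ms.map Prod.fst)) : ∃ g : G, xs.map (fun x => g * x * g⁻¹) = ms.map (el e) := by
  obtain ⟨g, hg⟩ := h
  rw [List.forall₂_map_right_iff] at hg
  refine ⟨g, List.ext_getElem (by simpa using hg.length_eq) fun i h1 h2 => ?_⟩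
  rw [List.getElem_map, List.getElem_map]
  exact eq_el e (hok _ (List.getElem_mem _))
    ((List.forall₂_iff_get.1 hg).2 i (by simpa using h1) (by simpa using h2))

end CfsgLib.M23Core
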